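import Mathlib

/-!
# Base changes along pushout squares
-/

set_option autoImplicit false
set_option linter.all false

universe u

open scoped TensorProduct

namespace DevissShrinkLib

variable {P P' Q Q' : Type u} [CommRing P] [CommRing P'] [CommRing Q] [CommRing Q']
  [Algebra P P'] [Algebra P Q] [Algebra P' Q'] [Algebra Q Q'] [Algebra P Q']
  [IsScalarTower P P' Q'] [IsScalarTower P Q Q'] [Algebra.IsPushout P P' Q Q']

theorem surjective_pushout (h : Function.Surjective (algebraMap P Q)) :
    Function.Surjective (algebraMap P' Q') := by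
  intro c
  obtain ⟨w, rfl⟩ := (Algebra.IsPushout.equiv P P' Q Q').surjective c
  induction w using TensorProduct.induction_on with
  | zero => exact ⟨0, by simp⟩
  | tmul s c =>
    obtain ⟨t, rfl⟩ := h c
    refine ⟨s * algebraMap P P' t, ?_⟩
    rw [Algebra.IsPushout.equiv_tmul, map_mul, ← IsScalarTower.algebraMap_apply, ← IsScalarTower.algebraMap_apply]
  | add u v hu hv =>
    obtain ⟨a, ha⟩ := hu; obtain ⟨b, hb⟩ := hv
    exact ⟨a + b, by rw [map_add, map_add, ha, hb]⟩

theorem finitePresentation_pushout (h : Algebra.FinitePresentation P Q) : Algebra.FinitePresentation P' Q' := by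
  haveI := h
  haveI : Algebra.FinitePresentation P' (P' ⊗[P] Q) := inferInstance
  exact Algebra.FinitePresentation.equiv (Algebra.IsPushout.equiv P P' Q Q')

theorem finite_pushout (h : Module.Finite P Q) : Module.Finite P' Q' := by
  haveI := h
  exact Module.Finite.equiv (Algebra.IsPushout.equiv P P' Q Q').toLinearEquiv

variable {M M' : Type u} [AddCommGroup M] [Module P M] [Module Q M] [IsScalarTower P Q M]
  [AddCommGroup M'] [Module Q' M'] [Module Q M'] [IsScalarTower Q Q' M'] [Module P' M'] [IsScalarTower P' Q' M']
  [Module P M'] [IsScalarTower P Q M'] [IsScalarTower P P' M']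

/-- A base change along the far side of a pushout square is one along the near side. -/
theorem isBaseChange_restrict (g : M →ₗ[Q] M') (hg : IsBaseChange Q' g) :
    IsBaseChange P' (g.restrictScalars P) :=
  IsBaseChange.of_equiv ((Algebra.IsPushout.cancelBaseChange P P' Q Q' M).symm.trans (hg.equiv.restrictScalars P'))
    fun x => by
      rw [LinearEquiv.trans_apply,
        show (Algebra.IsPushout.cancelBaseChange P P' Q Q' M).symm (1 ⊗ₜ[P] x) = 1 ⊗ₜ[Q] x from by
          rw [LinearEquiv.symm_apply_eq, Algebra.IsPushout.cancelBaseChange_tmul]]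
      show hg.equiv (1 ⊗ₜ[Q] x) = g x
      rw [hg.equiv_tmul, one_smul]

omit [Module Q M] [IsScalarTower P Q M] [Module Q' M'] [Module Q M'] [IsScalarTower Q Q' M']
  [IsScalarTower P' Q' M'] [IsScalarTower P Q M'] in
/-- Bijectivity after base change to a residue field is inherited by base changes. -/
theorem bijective_baseChange_residue (g : M →ₗ[P] M') (hg : IsBaseChange P' g) {r : ℕ}
    (α : (Fin r → P) →ₗ[P] M) (α' : (Fin r → P') →ₗ[P'] M') (hα : ∀ j, α' (Pi.single j 1) = g (α (Pi.single j 1)))
    (I : Ideal P) [I.IsPrime] (I' : Ideal P') [I'.IsPrime] (hI : I'.comap (algebraMap P P') = I)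
    (hbij : Function.Bijective (α.baseChange I.ResidueField)) :
    Function.Bijective (α'.baseChange I'.ResidueField) := by
  classical
  let K := I.ResidueField
  let K' := I'.ResidueField
  letI : Algebra K K' := (Ideal.ResidueField.map I I' (algebraMap P P') hI.symm).toAlgebra
  haveI : IsScalarTower P K K' := IsScalarTower.of_algebraMap_eq fun a => by
    show _ = Ideal.ResidueField.map I I' (algebraMap P P') hI.symm (algebraMap P K a)
    rw [Ideal.ResidueField.map_algebraMap, IsScalarTower.algebraMap_apply P P' K']
  let b := (Algebra.TensorProduct.basis K (Pi.basisFun P (Fin r))).map (LinearEquiv.ofBijective _ hbij)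
  let e₁ : K' ⊗[P'] M' ≃ₗ[K'] K' ⊗[P'] (P' ⊗[P] M) :=
    TensorProduct.AlgebraTensorModule.congr (LinearEquiv.refl K' K') hg.equiv.symm
  let e₂ := TensorProduct.AlgebraTensorModule.cancelBaseChange P P' K' K' M
  let e₃ := TensorProduct.AlgebraTensorModule.cancelBaseChange P K K' K' M
  let b' := (Algebra.TensorProduct.basis K' b).map (e₃.trans (e₂.symm.trans e₁.symm))
  have hb : ∀ j, b' j = (1 : K') ⊗ₜ[P'] α' (Pi.single j 1) := fun j => by
    simp only [b', b, Module.Basis.map_apply, Algebra.TensorProduct.basis_apply, Pi.basisFun_apply,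
      LinearEquiv.ofBijective_apply, LinearMap.baseChange_tmul, LinearEquiv.trans_apply]
    rw [TensorProduct.AlgebraTensorModule.cancelBaseChange_tmul, one_smul,
      TensorProduct.AlgebraTensorModule.cancelBaseChange_symm_tmul, LinearEquiv.symm_apply_eq, hα]
    simp only [e₁, TensorProduct.AlgebraTensorModule.congr_tmul, LinearEquiv.refl_apply]
    congr 1
    rw [LinearEquiv.eq_symm_apply, hg.equiv_tmul, one_smul]
  let B0 := Algebra.TensorProduct.basis K' (Pi.basisFun P' (Fin r))
  have he : α'.baseChange K' = (B0.equiv b' (Equiv.refl _)).toLinearMap := B0.ext fun j => by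
    rw [LinearEquiv.coe_coe, Module.Basis.equiv_apply, Equiv.refl_apply, hb]
    simp [B0, Pi.basisFun_apply]
  rw [he]
  exact (B0.equiv b' (Equiv.refl _)).bijective

end DevissShrinkLib
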