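import Groth.Agent.DevissShrinkLib.BaseChange
import Groth.Agent.DevissShrinkLib.Push
import Mathlib

/-!
# The pointed data of one index along a residually trivial base change
-/

set_option autoImplicit false
set_option linter.all false

universe u

open scoped TensorProduct
open CategoryTheory AlgebraicGeometry

namespace DevissShrinkLib

theorem exists_prime_pushout {R R' D D' : Type u} [CommRing R] [CommRing R'] [CommRing D] [CommRing D']
    [Algebra R R'] [Algebra R D] [Algebra R' D'] [Algebra R D'] [Algebra D D'] [IsScalarTower R R' D']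
    [IsScalarTower R D D'] [Algebra.IsPushout R R' D D'] (p : Ideal R) (p' : Ideal R') (y : Ideal D)
    [p.IsPrime] [p'.IsPrime] [y.IsPrime] [p'.LiesOver p] [y.LiesOver p] :
    ∃ (y' : Ideal D') (_ : y'.IsPrime), y'.comap (algebraMap R' D') = p' ∧ y'.comap (algebraMap D D') = y := by
  obtain ⟨w, h1, h2⟩ := Scheme.exists_preimage_of_isPullback
    (isPullback_SpecMap_of_isPushout _ _ _ _
      ((CommRingCat.isPushout_iff_isPushout (R := R) (R' := R') (S := D) (S' := D')).mpr inferInstance))
    (⟨p', inferInstance⟩ : PrimeSpectrum R') (⟨y, inferInstance⟩ : PrimeSpectrum D)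
    (PrimeSpectrum.ext ((Ideal.over_def p' p).symm.trans (Ideal.over_def y p)))
  exact ⟨w.asIdeal, w.isPrime, congrArg PrimeSpectrum.asIdeal h1, congrArg PrimeSpectrum.asIdeal h2⟩

/-- The pointed properties at one index of a base change with trivial residue extension. -/
theorem at_index {R R' : Type u} [CommRing R] [CommRing R'] [Algebra R R'] (p : Ideal R) (p' : Ideal R')
    [p.IsPrime] [p'.IsPrime] [hp' : p'.LiesOver p]
    (hκ : Function.Bijective (Ideal.ResidueField.mapₐ p p' (Algebra.ofId R R') hp'.over))
    {B A B' A' M M' : Type u} [CommRing B] [CommRing A] [CommRing B'] [CommRing A']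
    [Algebra R B] [Algebra R A] [Algebra B A] [IsScalarTower R B A]
    [Algebra R' B'] [Algebra R' A'] [Algebra B' A'] [IsScalarTower R' B' A']
    [Algebra B B'] [Algebra R B'] [IsScalarTower R R' B'] [IsScalarTower R B B'] [Algebra.IsPushout R R' B B']
    [Algebra A A'] [Algebra R A'] [IsScalarTower R R' A'] [IsScalarTower R A A'] [Algebra.IsPushout R R' A A']
    [Algebra B A'] [IsScalarTower B B' A'] [IsScalarTower B A A']
    [AddCommGroup M] [Module A M] [Module B M] [IsScalarTower B A M]
    [AddCommGroup M'] [Module A' M'] [Module B' M'] [IsScalarTower B' A' M'] [Module A M'] [IsScalarTower A A' M']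
    [Module.Finite B A] [Module.Finite A M] (g : M →ₗ[A] M') (hg : IsBaseChange A' g)
    (y : Ideal B) (z : Ideal A) [y.IsPrime] [z.IsPrime] [y.LiesOver p] [z.LiesOver y]
    (y' : Ideal B') (z' : Ideal A') [y'.IsPrime] [z'.IsPrime] [y'.LiesOver p'] [z'.LiesOver p']
    [y'.LiesOver y] [z'.LiesOver z]
    (hpt : FlatCA.PurelyTranscendental p y) (huniq : ∀ (Q : Ideal A) [Q.IsPrime], Q.LiesOver y → Q = z)
    (d : ℕ) (hsm : FlatCA.SmoothRelDim d R B)
    (hloc : ∃ (x : PrimeSpectrum (p.Fiber B)) (hx : x ∈ Module.support (p.Fiber B) (FlatCA.fiberMod p B M)),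
      x.asIdeal = FlatCA.fiberIdeal p y ∧
      FlatMor.localDim (Module.support (p.Fiber B) (FlatCA.fiberMod p B M)) ⟨x, hx⟩ = d) :
    ∃ (_ : z'.LiesOver y'), FlatCA.PurelyTranscendental p' y' ∧
      (∀ (Q : Ideal A') [Q.IsPrime], Q.LiesOver y' → Q = z') ∧ FlatCA.SmoothRelDim d R' B' ∧
      ∃ (x : PrimeSpectrum (p'.Fiber B')) (hx : x ∈ Module.support (p'.Fiber B') (FlatCA.fiberMod p' B' M')),
        x.asIdeal = FlatCA.fiberIdeal p' y' ∧
        FlatMor.localDim (Module.support (p'.Fiber B') (FlatCA.fiberMod p' B' M')) ⟨x, hx⟩ = d := by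
  haveI hzy : z'.LiesOver y' := by
    let w := z'.comap (algebraMap B' A')
    haveI : w.IsPrime := Ideal.IsPrime.comap _
    have e : w = y' := DevissExLib.eq_of_comap_eq (C₁ := B) p p' hκ.2 w y' ⟨by
        show p' = (z'.comap (algebraMap B' A')).comap (algebraMap R' B')
        rw [Ideal.comap_comap, ← IsScalarTower.algebraMap_eq]
        exact Ideal.over_def z' p'⟩ inferInstance (by
        show (z'.comap (algebraMap B' A')).comap (algebraMap B B') = y'.comap (algebraMap B B')
        rw [Ideal.comap_comap, ← IsScalarTower.algebraMap_eq, IsScalarTower.algebraMap_eq B A A',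
          ← Ideal.comap_comap]
        exact ((congrArg (Ideal.comap _) (Ideal.over_def z' z)).symm.trans (Ideal.over_def z y).symm).trans
          (Ideal.over_def y' y))
    exact ⟨e.symm⟩
  refine ⟨hzy, DevissExLib.purelyTranscendental_of_bijective (S := B) p p' y y' hκ.2
      (surjective_residue_pushout p p' hκ.2 y y') hpt, ?_, ?_, ?_⟩
  · intro Q _ hQ
    haveI := hQ
    refine DevissExLib.eq_of_comap_eq (C₁ := A) p p' hκ.2 Q z' (Ideal.LiesOver.trans Q y' p') inferInstance ?_
    haveI : (Q.comap (algebraMap A A')).LiesOver y := ⟨by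
      show y = (Q.comap (algebraMap A A')).comap (algebraMap B A)
      rw [Ideal.comap_comap, ← IsScalarTower.algebraMap_eq, IsScalarTower.algebraMap_eq B B' A',
        ← Ideal.comap_comap]
      exact (Ideal.over_def y' y).trans (congrArg (Ideal.comap _) hQ.over)⟩
    exact (huniq _ inferInstance).trans (Ideal.over_def z' z)
  · haveI := AlgebraicGeometry.smoothOfRelativeDimension_isStableUnderBaseChange (n := d)
    exact MorphismProperty.of_isPullback (P := @SmoothOfRelativeDimension d)
      (isPullback_SpecMap_of_isPushout _ _ _ _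
        ((CommRingCat.isPushout_iff_isPushout (R := R) (R' := R') (S := B) (S' := B')).mpr inferInstance)).flip hsm
  · haveI : IsScalarTower R B' A' := IsScalarTower.of_algebraMap_eq fun r => by
      rw [IsScalarTower.algebraMap_apply R R' B', ← IsScalarTower.algebraMap_apply R' B' A',
        ← IsScalarTower.algebraMap_apply R R' A']
    haveI : IsScalarTower R B A' := IsScalarTower.of_algebraMap_eq fun r => by
      rw [IsScalarTower.algebraMap_apply R A A', IsScalarTower.algebraMap_apply R B A,
        ← IsScalarTower.algebraMap_apply B A A']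
    haveI hAB : Algebra.IsPushout B B' A A' := by
      haveI : Algebra.IsPushout R B R' B' := Algebra.IsPushout.symm inferInstance
      haveI hA : Algebra.IsPushout R A R' A' := Algebra.IsPushout.symm inferInstance
      exact ((Algebra.IsPushout.comp_iff (R := R) (S := B) (R' := R') (S' := B') (T := A) (T' := A')).1 hA).symm
    letI mB : Module B M' := Module.compHom M' (algebraMap B A')
    haveI : IsScalarTower B A M' := IsScalarTower.of_algebraMap_smul fun b m => by
      show algebraMap B A b • m = algebraMap B A' b • m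
      rw [← algebraMap_smul A' (algebraMap B A b) m, ← IsScalarTower.algebraMap_apply]
    haveI : IsScalarTower B B' M' := IsScalarTower.of_algebraMap_smul fun b m => by
      show algebraMap B B' b • m = algebraMap B A' b • m
      rw [← algebraMap_smul A' (algebraMap B B' b) m, ← IsScalarTower.algebraMap_apply]
    haveI : Module.Finite B M := Module.Finite.trans A M
    obtain ⟨gm, hgm, hgc⟩ := exists_map_support_residue p p' hκ B' M M' (g.restrictScalars B)
      (isBaseChange_restrict g hg)
    obtain ⟨ξ, hξ, hξq, hξn⟩ := hloc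
    obtain ⟨x₁, hx₁⟩ := (DevissExLib.mem_range_comap_incl p (⟨y, inferInstance⟩ : PrimeSpectrum B)).2
      (Ideal.over_def y p).symm
    have hξx : ξ = x₁ := PrimeSpectrum.ext (by
      rw [hξq, show y = x₁.asIdeal.comap (FibAssLib.incl B p) from (congrArg PrimeSpectrum.asIdeal hx₁).symm]
      exact FlatInjLib.fiberIdeal_comap p x₁.asIdeal)
    obtain ⟨w, hw⟩ := hgm.surjective ⟨ξ, hξ⟩
    have hwq : (PrimeSpectrum.comap (FibAssLib.incl B' p') w.1).asIdeal = y' := by
      have h2 := (DevissExLib.mem_range_comap_incl p' _).1 ⟨w.1, rfl⟩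
      refine DevissExLib.eq_of_comap_eq (C₁ := B) p p' hκ.2 _ y' ⟨h2.symm⟩ inferInstance ?_
      have h5 := hgc w
      rw [hw] at h5
      exact ((congrArg PrimeSpectrum.asIdeal h5).symm.trans
        (congrArg PrimeSpectrum.asIdeal ((congrArg (PrimeSpectrum.comap _) hξx).trans hx₁))).trans
          (Ideal.over_def y' y)
    refine ⟨w.1, w.2, ?_, ?_⟩
    · rw [← hwq]
      exact (FlatInjLib.fiberIdeal_comap p' w.1.asIdeal).symm
    · show FlatMor.localDim _ w = _
      rw [← FibDimLib.localDim_eq_of_isOpenEmbedding hgm.isOpenEmbedding w, hw, hξn]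

end DevissShrinkLib
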