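import Groth.Agent.DevissShrinkLib.Basic
import Groth.Agent.DevissExLib.Chain
import Groth.Agent.DevissExLib.GeomIrredNhd
import Groth.Agent.FlatInjLib.DevissBC
import Mathlib

/-!
# Fibres along residually trivial base changes
-/

set_option autoImplicit false
set_option linter.all false

universe u

open scoped TensorProduct

namespace DevissShrinkLib

attribute [local instance] Algebra.TensorProduct.rightAlgebra

/-- Along a base change with trivial residue extension the fibre supports are homeomorphic. -/
theorem exists_map_support_residue {R S : Type u} [CommRing R] [CommRing S] [Algebra R S]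
    (p : Ideal R) [p.IsPrime] {R' : Type u} [CommRing R'] [Algebra R R'] (p' : Ideal R') [p'.IsPrime]
    [hp' : p'.LiesOver p] (hκ : Function.Bijective (Ideal.ResidueField.mapₐ p p' (Algebra.ofId R R') hp'.over))
    (S' : Type u) [CommRing S'] [Algebra R' S'] [Algebra R S'] [Algebra S S'] [IsScalarTower R R' S']
    [IsScalarTower R S S'] [Algebra.IsPushout R R' S S']
    (N : Type u) [AddCommGroup N] [Module S N] [Module.Finite S N]
    (N' : Type u) [AddCommGroup N'] [Module S' N'] [Module S N'] [IsScalarTower S S' N']
    (f : N →ₗ[S] N') (hf : IsBaseChange S' f) :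
    ∃ g : Module.support (p'.Fiber S') (FlatCA.fiberMod p' S' N') →
        Module.support (p.Fiber S) (FlatCA.fiberMod p S N),
      IsHomeomorph g ∧ ∀ x, PrimeSpectrum.comap (FibAssLib.incl S p) (g x).1 =
          PrimeSpectrum.comap (algebraMap S S') (PrimeSpectrum.comap (FibAssLib.incl S' p') x.1) := by
  letI : Algebra p.ResidueField p'.ResidueField :=
    (Ideal.ResidueField.mapₐ p p' (Algebra.ofId R R') (p'.over_def p)).toRingHom.toAlgebra
  haveI : IsScalarTower R p.ResidueField p'.ResidueField :=
    IsScalarTower.of_algebraMap_eq fun r => ((Ideal.ResidueField.mapₐ p p' (Algebra.ofId R R') (p'.over_def p)).commutes r).symm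
  let A := p.Fiber S
  let A' := p'.Fiber S'
  letI : Algebra S A' := ((algebraMap S' A').comp (algebraMap S S')).toAlgebra
  haveI : IsScalarTower S S' A' := IsScalarTower.of_algebraMap_eq fun _ => rfl
  haveI : IsScalarTower R R' A' := inferInstance
  haveI : IsScalarTower R S A' := IsScalarTower.of_algebraMap_eq fun r => by
    rw [IsScalarTower.algebraMap_apply R R' A', IsScalarTower.algebraMap_apply R' S' A',
      ← IsScalarTower.algebraMap_apply R R' S', IsScalarTower.algebraMap_apply R S S']
    rfl
  haveI : IsScalarTower R S' A' := IsScalarTower.of_algebraMap_eq fun r => by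
    rw [IsScalarTower.algebraMap_apply R R' A', IsScalarTower.algebraMap_apply R' S' A',
      ← IsScalarTower.algebraMap_apply R R' S']
  let φ : A →ₐ[p.ResidueField] A' :=
    Algebra.TensorProduct.lift (Algebra.ofId p.ResidueField A')
      (IsScalarTower.toAlgHom R S A') fun _ _ => Commute.all _ _
  letI : Algebra A A' := φ.toRingHom.toAlgebra
  haveI : IsScalarTower p.ResidueField A A' := IsScalarTower.of_algebraMap_eq fun x => (φ.commutes x).symm
  haveI : IsScalarTower S A A' := IsScalarTower.of_algebraMap_eq fun s => by
    show algebraMap S A' s = φ (1 ⊗ₜ s)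
    rw [Algebra.TensorProduct.lift_tmul, map_one, one_mul]
    rfl
  haveI : IsScalarTower R A A' := IsScalarTower.of_algebraMap_eq fun r => by
    exact (IsScalarTower.algebraMap_apply R S A' r).trans ((IsScalarTower.algebraMap_apply S A A' _).trans
      (congrArg (algebraMap A A') (IsScalarTower.algebraMap_apply R S A r).symm))
  haveI h1 : Algebra.IsPushout R p'.ResidueField S A' := by
    haveI : Algebra.IsPushout R R' S S' := inferInstance
    haveI : Algebra.IsPushout R' p'.ResidueField S' A' := inferInstance
    haveI : Algebra.IsPushout R R' S S' := inferInstance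
    exact (Algebra.IsPushout.comp_iff (R := R) (S := R') (R' := S) (S' := S') (T := p'.ResidueField) (T' := A')).2 inferInstance
  haveI : Algebra.IsPushout p.ResidueField p'.ResidueField A A' :=
    (Algebra.IsPushout.comp_iff (R := R) (S := p.ResidueField) (R' := S) (S' := A) (T := p'.ResidueField) (T' := A')).1 h1
  have hbij : Function.Bijective (algebraMap A A') := by
    let e := Algebra.IsPushout.equiv p.ResidueField p'.ResidueField A A'
    have he : ∀ a, algebraMap A A' a = e (1 ⊗ₜ a) := fun a => by
      rw [Algebra.IsPushout.equiv_tmul, map_one, one_mul]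
    refine ⟨fun a b hab => ?_, fun w => ?_⟩
    · rw [he, he] at hab
      exact Algebra.TensorProduct.includeRight_injective (R := p.ResidueField) hκ.1 (e.injective hab)
    · obtain ⟨w, rfl⟩ := e.surjective w
      induction w with
      | zero => exact ⟨0, by simp⟩
      | add a b ha hb =>
        obtain ⟨a', ha⟩ := ha
        obtain ⟨b', hb⟩ := hb
        exact ⟨a' + b', by rw [map_add, map_add, ha, hb]⟩
      | tmul c a =>
        obtain ⟨c, rfl⟩ := hκ.2 c
        refine ⟨algebraMap p.ResidueField A c * a, ?_⟩
        rw [Algebra.IsPushout.equiv_tmul, map_mul, ← IsScalarTower.algebraMap_apply p.ResidueField A A',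
          IsScalarTower.algebraMap_apply p.ResidueField p'.ResidueField A']
        rfl
  let Φ := PrimeSpectrum.homeomorphOfRingEquiv (RingEquiv.ofBijective _ hbij)
  have hΦ : ∀ x, PrimeSpectrum.comap (FibAssLib.incl S p) (Φ.symm x) =
      PrimeSpectrum.comap (algebraMap S S') (PrimeSpectrum.comap (FibAssLib.incl S' p') x) := fun x => by
    refine PrimeSpectrum.ext (Ideal.ext fun s => ?_)
    show algebraMap A A' (FibAssLib.incl S p s) ∈ x.asIdeal ↔
      FibAssLib.incl S' p' (algebraMap S S' s) ∈ x.asIdeal
    rw [show algebraMap A A' (FibAssLib.incl S p s) = FibAssLib.incl S' p' (algebraMap S S' s) from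
      (IsScalarTower.algebraMap_apply S A A' s).symm]
  have hmem : ∀ x, x ∈ Module.support (p'.Fiber S') (FlatCA.fiberMod p' S' N') ↔
      Φ.symm x ∈ Module.support (p.Fiber S) (FlatCA.fiberMod p S N) := fun x => by
    haveI : Module.Finite S' N' := Module.Finite.equiv hf.equiv
    rw [DevissExLib.mem_support_fiberMod, DevissExLib.mem_support_fiberMod, hΦ, ← hf.equiv.support_eq]
    exact DepthLib.mem_support_baseChange (P₀ := S) (P := S') N _
  exact ⟨Φ.symm.subtype hmem, (Φ.symm.subtype hmem).isHomeomorph, fun x => hΦ x.1⟩

/-- Residue fields of pushouts along trivial residue extensions. -/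
theorem surjective_residue_pushout {R D R' D' : Type u} [CommRing R] [CommRing D] [CommRing R'] [CommRing D']
    [Algebra R D] [Algebra R R'] [Algebra R' D'] [Algebra R D'] [Algebra D D'] [IsScalarTower R R' D']
    [IsScalarTower R D D'] [Algebra.IsPushout R R' D D']
    (p : Ideal R) [p.IsPrime] (p' : Ideal R') [p'.IsPrime] [hp : p'.LiesOver p]
    (hκ : Function.Surjective (Ideal.ResidueField.mapₐ p p' (Algebra.ofId R R') hp.over))
    (y : Ideal D) [y.IsPrime] [hy : y.LiesOver p] (y' : Ideal D') [y'.IsPrime] [hyy : y'.LiesOver y]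
    [hy' : y'.LiesOver p'] :
    Function.Surjective (Ideal.ResidueField.mapₐ y y' (Algebra.ofId D D') hyy.over) := by
  let ψ := (Ideal.ResidueField.mapₐ y y' (Algebra.ofId D D') hyy.over).toRingHom
  refine DevissExLib.surjective_residue_of_range ψ fun w => ?_
  obtain ⟨w, rfl⟩ := (Algebra.IsPushout.equiv R R' D D').surjective w
  induction w with
  | zero => rw [map_zero, map_zero]; exact zero_mem _
  | add a b ha hb => rw [map_add, map_add]; exact add_mem ha hb
  | tmul c d =>
    rw [Algebra.IsPushout.equiv_tmul, map_mul]
    refine mul_mem ?_ ⟨algebraMap D y.ResidueField d, ?_⟩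
    · obtain ⟨k, hk⟩ := hκ (algebraMap R' p'.ResidueField c)
      let f₁ := (Ideal.ResidueField.mapₐ p p' (Algebra.ofId R R') hp.over).toRingHom
      let f₂ := (Ideal.ResidueField.mapₐ p' y' (Algebra.ofId R' D') hy'.over).toRingHom
      let g₁ := (Ideal.ResidueField.mapₐ p y (Algebra.ofId R D) hy.over).toRingHom
      have hext : f₂.comp f₁ = ψ.comp g₁ := Ideal.ResidueField.ringHom_ext (RingHom.ext fun r => by
        simp only [f₁, f₂, g₁, ψ, RingHom.comp_apply, AlgHom.toRingHom_eq_coe, RingHom.coe_coe, AlgHom.commutes]
        rw [IsScalarTower.algebraMap_apply R R' p'.ResidueField, AlgHom.commutes,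
          IsScalarTower.algebraMap_apply R D y.ResidueField, AlgHom.commutes,
          IsScalarTower.algebraMap_apply R' D' y'.ResidueField, IsScalarTower.algebraMap_apply D D' y'.ResidueField,
          ← IsScalarTower.algebraMap_apply R R' D', ← IsScalarTower.algebraMap_apply R D D'])
      refine ⟨g₁ k, (RingHom.congr_fun hext k).symm.trans ?_⟩
      show f₂ (f₁ k) = _
      rw [show f₁ k = algebraMap R' p'.ResidueField c from hk]
      simp only [f₂, AlgHom.toRingHom_eq_coe, RingHom.coe_coe, AlgHom.commutes]
      exact IsScalarTower.algebraMap_apply R' D' y'.ResidueField c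
    · simp only [ψ, AlgHom.toRingHom_eq_coe, RingHom.coe_coe, AlgHom.commutes]
      exact IsScalarTower.algebraMap_apply D D' y'.ResidueField d

end DevissShrinkLib
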