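import Groth.Agent.DevissExLib.ChainLoc
import Groth.Agent.DevissExLib.Elem
import Groth.Agent.DevissExLib.FibreEtale
import Groth.Agent.DevissExLib.Resid
import Groth.Agent.FlatInjLib.AssFlat
import Mathlib

/-!
# Standard shrinkings of one-step dévissages
-/

set_option autoImplicit false
set_option linter.all false

universe u

open scoped TensorProduct

namespace DevissShrinkLib

/-- Enlarging a localisation element by a divisor. -/
theorem map_prime_of_away {A : Type u} [CommRing A] (A' : Type u) [CommRing A'] [Algebra A A'] (a : A)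
    [IsLocalization.Away a A'] (P : Ideal A) [P.IsPrime] (ha : a ∉ P) :
    (P.map (algebraMap A A')).IsPrime ∧ (P.map (algebraMap A A')).comap (algebraMap A A') = P :=
  ⟨IsLocalization.isPrime_of_isPrime_disjoint _ A' P ‹_› ((Ideal.disjoint_powers_iff_notMem_of_isPrime a).2 ha),
   IsLocalization.comap_map_of_isPrime_disjoint _ A' ‹_› ((Ideal.disjoint_powers_iff_notMem_of_isPrime a).2 ha)⟩

theorem bijective_residue_of_away {A A' : Type u} [CommRing A] [CommRing A'] [Algebra A A'] (a : A)
    [IsLocalization.Away a A'] (P : Ideal A) (P' : Ideal A') [P.IsPrime] [P'.IsPrime] [h : P'.LiesOver P] :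
    Function.Bijective (Ideal.ResidueField.mapₐ P P' (Algebra.ofId A A') h.over) :=
  (RingHom.surjectiveOnStalks_of_isLocalization (Submonoid.powers a) A').residueFieldMap_bijective P P' h.over

open FlatMor in
/-- A one-step dévissage at a point stays one after localisation. -/
theorem shrink_at
    {R S : Type u} [CommRing R] [CommRing S] [Algebra R S] [Algebra.FiniteType R S]
    {N : Type u} [AddCommGroup N] [Module S N] [Module R N] [IsScalarTower R S N] [Module.Finite S N]
    {p : Ideal R} [p.IsPrime] {q : Ideal S} [q.IsPrime] [q.LiesOver p]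
    {C D G : Type u} [CommRing C] [CommRing D] [Algebra S C] [Algebra R C] [IsScalarTower R S C]
    [Algebra R D] [Algebra D C] [IsScalarTower R D C] [AddCommGroup G] [Module C G] [Module S G]
    [IsScalarTower S C G] {n : ℕ}
    (h : FlatCA.IsOneStepDevissage R S N p C D G n)
    {z : Ideal C} [z.IsPrime] {y : Ideal D} [y.IsPrime] [z.LiesOver q] [z.LiesOver y] [y.LiesOver p]
    (h1 : ∃ (ξ : PrimeSpectrum (p.Fiber S)) (hξ : ξ ∈ Module.support (p.Fiber S) (FlatCA.fiberMod p S N)),
      ξ.asIdeal = FlatCA.fiberIdeal p q ∧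
      FlatMor.localDim (Module.support (p.Fiber S) (FlatCA.fiberMod p S N)) ⟨ξ, hξ⟩ = n)
    (h3 : ∀ (z₁ : Ideal C) [z₁.IsPrime], z₁.LiesOver y → z₁ = z)
    (h4 : FlatCA.PurelyTranscendental p y)
    (g : R) (hX : S) (hY : D) (hgp : g ∉ p) (hXq : hX ∉ q) (hYy : hY ∉ y)
    (R' S' C' D' : Type u) [CommRing R'] [CommRing S'] [CommRing C'] [CommRing D']
    [Algebra R R'] [Algebra S S'] [Algebra C C'] [Algebra D D'] [Algebra R' S'] [Algebra R S']
    [Algebra R' D'] [Algebra R D'] [Algebra S' C'] [Algebra S C'] [Algebra D' C'] [Algebra D C'] [Algebra R' C']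
    [IsScalarTower R R' S'] [IsScalarTower R S S'] [IsScalarTower R R' D'] [IsScalarTower R D D']
    [IsScalarTower S S' C'] [IsScalarTower S C C'] [IsScalarTower D D' C'] [IsScalarTower D C C']
    [IsScalarTower R' S' C'] [IsScalarTower R' D' C']
    [IsLocalization.Away g R'] [IsLocalization.Away hX S'] [IsLocalization.Away hY D']
    [IsLocalization.Away (algebraMap S C hX) C'] [IsLocalization.Away (algebraMap D C hY) C']
    (hsm : FlatCA.SmoothRelDim n R' D') (hgi : FlatCA.GeomIrredFibres R' D')
    (N' : Type u) [AddCommGroup N'] [Module S' N'] [Module R' N'] [IsScalarTower R' S' N']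
    [Module S N'] [IsScalarTower S S' N'] (f : N →ₗ[S] N') (hf : IsBaseChange S' f)
    (G' : Type u) [AddCommGroup G'] [Module C' G'] [Module S' G'] [IsScalarTower S' C' G']
    [Module C G'] [IsScalarTower C C' G'] (gG : G →ₗ[C] G') (hg : IsBaseChange C' gG) :
    ∃ (_ : (p.map (algebraMap R R')).IsPrime) (_ : (y.map (algebraMap D D')).IsPrime)
      (_ : (y.map (algebraMap D D')).LiesOver (p.map (algebraMap R R'))),
      FlatCA.IsOneStepDevissage R' S' N' (p.map (algebraMap R R')) C' D' G' n ∧
      (∃ (ξ : PrimeSpectrum ((p.map (algebraMap R R')).Fiber S'))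
          (hξ : ξ ∈ Module.support ((p.map (algebraMap R R')).Fiber S') (FlatCA.fiberMod (p.map (algebraMap R R')) S' N')),
        ξ.asIdeal = FlatCA.fiberIdeal (p.map (algebraMap R R')) (q.map (algebraMap S S')) ∧
        FlatMor.localDim (Module.support ((p.map (algebraMap R R')).Fiber S')
          (FlatCA.fiberMod (p.map (algebraMap R R')) S' N')) ⟨ξ, hξ⟩ = n) ∧
      (z.map (algebraMap C C')).LiesOver (q.map (algebraMap S S')) ∧
      (z.map (algebraMap C C')).LiesOver (y.map (algebraMap D D')) ∧
      (∀ (z₂ : Ideal C') [z₂.IsPrime], z₂.LiesOver (y.map (algebraMap D D')) → z₂ = z.map (algebraMap C C')) ∧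
      FlatCA.PurelyTranscendental (p.map (algebraMap R R')) (y.map (algebraMap D D')) := by
  obtain ⟨⟨eN⟩, hsurj, hfp, hfinDC, hfinCG, -, -, hdim⟩ := h
  haveI := hfinDC
  haveI := hfinCG
  haveI := hfp
  have hZz : algebraMap D C hY ∉ z := fun hm => hYy (by rw [Ideal.over_def z y]; exact hm)
  obtain ⟨hp', hpc⟩ := map_prime_of_away R' g p hgp
  obtain ⟨hq', hqc⟩ := map_prime_of_away S' hX q hXq
  obtain ⟨hy', hyc⟩ := map_prime_of_away D' hY y hYy
  obtain ⟨hz', hzc⟩ := map_prime_of_away C' (algebraMap D C hY) z hZz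
  set p' := p.map (algebraMap R R') with hp'def
  set q' := q.map (algebraMap S S') with hq'def
  set y' := y.map (algebraMap D D') with hy'def
  set z' := z.map (algebraMap C C') with hz'def
  haveI := hp'; haveI := hq'; haveI := hy'; haveI := hz'
  haveI : p'.LiesOver p := ⟨hpc.symm⟩
  haveI : y'.LiesOver y := ⟨hyc.symm⟩
  haveI : q'.LiesOver q := ⟨hqc.symm⟩
  haveI hy'p : y'.LiesOver p' := ⟨(IsLocalization.orderEmbedding (Submonoid.powers g) R').injective (by
    show p'.comap (algebraMap R R') = (y'.comap (algebraMap R' D')).comap (algebraMap R R')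
    rw [Ideal.comap_comap, ← IsScalarTower.algebraMap_eq, IsScalarTower.algebraMap_eq R D D',
      ← Ideal.comap_comap, hyc, hpc]
    exact Ideal.over_def y p)⟩
  haveI hq'p : q'.LiesOver p' := ⟨(IsLocalization.orderEmbedding (Submonoid.powers g) R').injective (by
    show p'.comap (algebraMap R R') = (q'.comap (algebraMap R' S')).comap (algebraMap R R')
    rw [Ideal.comap_comap, ← IsScalarTower.algebraMap_eq, IsScalarTower.algebraMap_eq R S S',
      ← Ideal.comap_comap, hqc, hpc]
    exact Ideal.over_def q p)⟩
  have hzq : z'.LiesOver q' := ⟨(IsLocalization.orderEmbedding (Submonoid.powers hX) S').injective (by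
    show q'.comap (algebraMap S S') = (z'.comap (algebraMap S' C')).comap (algebraMap S S')
    rw [Ideal.comap_comap, ← IsScalarTower.algebraMap_eq, IsScalarTower.algebraMap_eq S C C',
      ← Ideal.comap_comap, hzc, hqc]
    exact Ideal.over_def z q)⟩
  have hzy : z'.LiesOver y' := ⟨(IsLocalization.orderEmbedding (Submonoid.powers hY) D').injective (by
    show y'.comap (algebraMap D D') = (z'.comap (algebraMap D' C')).comap (algebraMap D D')
    rw [Ideal.comap_comap, ← IsScalarTower.algebraMap_eq, IsScalarTower.algebraMap_eq D C C',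
      ← Ideal.comap_comap, hzc, hyc]
    exact Ideal.over_def z y)⟩
  haveI hpS : Algebra.IsPushout S S' C C' := by
    haveI : IsLocalization (Algebra.algebraMapSubmonoid C (Submonoid.powers hX)) C' := by
      rw [Algebra.algebraMapSubmonoid_powers]; infer_instance
    exact Algebra.IsPushout.symm (Algebra.isPushout_of_isLocalization (Submonoid.powers hX) S' C C')
  haveI hpD : Algebra.IsPushout D D' C C' := by
    haveI : IsLocalization (Algebra.algebraMapSubmonoid C (Submonoid.powers hY)) C' := by
      rw [Algebra.algebraMapSubmonoid_powers]; infer_instance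
    exact Algebra.IsPushout.symm (Algebra.isPushout_of_isLocalization (Submonoid.powers hY) D' C C')
  haveI : Algebra.Etale R R' := Algebra.Etale.of_isLocalizationAway g
  haveI : Algebra.Etale S S' := Algebra.Etale.of_isLocalizationAway hX
  have hfp' : Algebra.FinitePresentation S' C' := by
    haveI : Algebra.FinitePresentation S' (S' ⊗[S] C) := inferInstance
    exact Algebra.FinitePresentation.equiv (Algebra.IsPushout.equiv S S' C C')
  have hsurj' : Function.Surjective (algebraMap S' C') := by
    intro c
    obtain ⟨w, rfl⟩ := (Algebra.IsPushout.equiv S S' C C').surjective c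
    induction w using TensorProduct.induction_on with
    | zero => exact ⟨0, by simp⟩
    | tmul s c =>
      obtain ⟨t, rfl⟩ := hsurj c
      refine ⟨s * algebraMap S S' t, ?_⟩
      rw [Algebra.IsPushout.equiv_tmul, map_mul, ← IsScalarTower.algebraMap_apply,
        ← IsScalarTower.algebraMap_apply]
    | add u v hu hv =>
      obtain ⟨a, ha⟩ := hu; obtain ⟨b, hb⟩ := hv
      exact ⟨a + b, by rw [map_add, map_add, ha, hb]⟩
  haveI : Module.Finite D' C' := Module.Finite.equiv (Algebra.IsPushout.equiv D D' C C').toLinearEquiv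
  haveI : Module.Finite C' G' := Module.Finite.equiv hg.equiv
  let eS : N' ≃ₗ[S'] G' :=
    (hf.equiv.symm.trans (TensorProduct.AlgebraTensorModule.congr (LinearEquiv.refl S' S') eN)).trans
      ((Algebra.IsPushout.cancelBaseChange S S' C C' G).symm.trans (hg.equiv.restrictScalars S'))
  have huniq : ∀ (z₂ : Ideal C') [z₂.IsPrime], z₂.LiesOver y' → z₂ = z' := by
    intro z₂ _ h₂
    haveI : (z₂.comap (algebraMap C C')).LiesOver y := ⟨by
      show y = (z₂.comap (algebraMap C C')).comap (algebraMap D C)
      rw [Ideal.comap_comap, ← IsScalarTower.algebraMap_eq, IsScalarTower.algebraMap_eq D D' C',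
        ← Ideal.comap_comap]
      exact hyc.symm.trans (congrArg (Ideal.comap _) h₂.over)⟩
    rw [← IsLocalization.map_under (Submonoid.powers (algebraMap D C hY)) C' z₂]
    exact congrArg (Ideal.map (algebraMap C C')) (h3 _ inferInstance)
  have hpt : FlatCA.PurelyTranscendental p' y' :=
    DevissExLib.purelyTranscendental_of_bijective (S := D) p p' y y'
      (bijective_residue_of_away g p p').2 (bijective_residue_of_away hY y y').2 h4
  haveI : Algebra.FiniteType R' S' := by
    haveI : Algebra.FiniteType R S' := Algebra.FiniteType.trans (S := S) inferInstance inferInstance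
    exact Algebra.FiniteType.of_restrictScalars_finiteType R R' S'
  haveI : Module.Finite S' N' := Module.Finite.equiv hf.equiv
  obtain ⟨gm, hgm⟩ := DevissExLib.exists_map_support_etale p p' N N' f hf
  obtain ⟨ξ, hξ, hξq, hξn⟩ := h1
  obtain ⟨x₀, hx₀⟩ := (DevissExLib.mem_range_comap_incl p' (⟨q', inferInstance⟩ : PrimeSpectrum S')).2
    (Ideal.over_def q' p').symm
  obtain ⟨x₁, hx₁⟩ := (DevissExLib.mem_range_comap_incl p (⟨q, inferInstance⟩ : PrimeSpectrum S)).2
    (Ideal.over_def q p).symm
  have hξx : ξ = x₁ := PrimeSpectrum.ext (by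
    rw [hξq, show q = x₁.asIdeal.comap (FibAssLib.incl S p) from (congrArg PrimeSpectrum.asIdeal hx₁).symm]
    exact FlatInjLib.fiberIdeal_comap p x₁.asIdeal)
  have hπ : PrimeSpectrum.comap (algebraMap S S') (PrimeSpectrum.comap (FibAssLib.incl S' p') x₀) =
      PrimeSpectrum.comap (FibAssLib.incl S p) ξ := by
    rw [hx₀, hξx, hx₁]
    exact PrimeSpectrum.ext hqc
  have hx₀s : x₀ ∈ Module.support (p'.Fiber S') (FlatCA.fiberMod p' S' N') := by
    rw [DevissExLib.mem_support_fiberMod, ← hf.equiv.support_eq]
    refine (DepthLib.mem_support_baseChange (P₀ := S) (P := S') N _).2 ?_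
    rw [hπ, ← DevissExLib.mem_support_fiberMod]
    exact hξ
  have hgx : gm ⟨x₀, hx₀s⟩ = ⟨ξ, hξ⟩ :=
    Subtype.ext ((DevissExLib.isEmbedding_comap_incl p).injective ((hgm ⟨x₀, hx₀s⟩).1.trans hπ))
  have hloc : FlatMor.localDim (Module.support (p'.Fiber S') (FlatCA.fiberMod p' S' N')) ⟨x₀, hx₀s⟩ = n := by
    rw [(hgm ⟨x₀, hx₀s⟩).2, hgx, hξn]
  have hdim' : Module.supportDim (p'.Fiber S') (FlatCA.fiberMod p' S' N') = n := by
    refine le_antisymm ?_ (hloc ▸ ?_)
    · rw [DevissExLib.supportDim_fiberMod_eq, FibDimLib.topologicalKrullDim_eq_iSup_localDim, ← hdim,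
        DevissExLib.supportDim_fiberMod_eq]
      exact iSup_le fun x => (hgm x).2.le.trans (FibDimLib.localDim_le _)
    · rw [DevissExLib.supportDim_fiberMod_eq]
      exact FibDimLib.localDim_le _
  have hx₀q : x₀.asIdeal = FlatCA.fiberIdeal p' q' := by
    rw [show q' = x₀.asIdeal.comap (FibAssLib.incl S' p') from (congrArg PrimeSpectrum.asIdeal hx₀).symm]
    exact (FlatInjLib.fiberIdeal_comap p' x₀.asIdeal).symm
  exact ⟨inferInstance, inferInstance, inferInstance,
    ⟨⟨eS⟩, hsurj', hfp', inferInstance, inferInstance, hsm, hgi, hdim'⟩,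
    ⟨x₀, hx₀s, hx₀q, hloc⟩, hzq, hzy, huniq, hpt⟩

/-- The elements cutting out a standard shrinking. -/
theorem exists_shrink_data
    {R S C D : Type u} [CommRing R] [CommRing S] [CommRing C] [CommRing D] [Algebra R S] [Algebra S C]
    [Algebra R C] [IsScalarTower R S C] [Algebra R D] [Algebra D C] [IsScalarTower R D C] [Algebra.Smooth R D]
    (hsurj : Function.Surjective (algebraMap S C))
    {p : Ideal R} [p.IsPrime] {q : Ideal S} [q.IsPrime] [q.LiesOver p]
    {z : Ideal C} {y : Ideal D} [y.IsPrime] [z.LiesOver q] [z.LiesOver y] [y.LiesOver p]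
    (f : S) (hf : f ∉ q) (h' : D) (hh' : h' ∉ y) :
    ∃ (g : R) (hX : S), g ∉ p ∧ hX ∉ q ∧ h' * algebraMap R D g ∉ y ∧ f ∣ hX ∧ algebraMap R S g ∣ hX ∧
      algebraMap S C hX = algebraMap S C f * algebraMap D C (h' * algebraMap R D g) ∧
      ∀ t : PrimeSpectrum R, g ∉ t.asIdeal →
        ∃ x : PrimeSpectrum D, x.asIdeal.comap (algebraMap R D) = t.asIdeal ∧ h' ∉ x.asIdeal := by
  let U := PrimeSpectrum.comap (algebraMap R D) '' (PrimeSpectrum.basicOpen h' : Set (PrimeSpectrum D))
  have hU : IsOpen U := by
    haveI : AlgebraicGeometry.Smooth (AlgebraicGeometry.Spec.map (CommRingCat.ofHom (algebraMap R D))) := by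
      rw [AlgebraicGeometry.HasRingHomProperty.Spec_iff (P := @AlgebraicGeometry.Smooth)]
      exact RingHom.smooth_algebraMap.2 inferInstance
    exact (AlgebraicGeometry.Spec.map (CommRingCat.ofHom (algebraMap R D))).isOpenMap _
      (PrimeSpectrum.basicOpen h').isOpen
  obtain ⟨_, ⟨g, rfl⟩, hgp, hgU⟩ :=
    PrimeSpectrum.isTopologicalBasis_basic_opens.exists_subset_of_mem_open
      (⟨⟨y, inferInstance⟩, hh', PrimeSpectrum.ext (Ideal.over_def y p).symm⟩ :
        (⟨p, inferInstance⟩ : PrimeSpectrum R) ∈ U) hU
  obtain ⟨f₀, hf₀⟩ := hsurj (algebraMap D C h')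
  have hf₀q : f₀ ∉ q := fun hm => hh' (by
    rw [Ideal.over_def z q] at hm
    rw [Ideal.over_def z y]
    show algebraMap D C h' ∈ z
    rw [← hf₀]
    exact hm)
  have hgq : algebraMap R S g ∉ q := fun hm => hgp (show g ∈ p by rw [Ideal.over_def q p]; exact hm)
  have hgy : algebraMap R D g ∉ y := fun hm => hgp (show g ∈ p by rw [Ideal.over_def y p]; exact hm)
  refine ⟨g, f * f₀ * algebraMap R S g, hgp,
    fun hm => ((inferInstance : q.IsPrime).mem_or_mem hm).elim
      (fun h1 => ((inferInstance : q.IsPrime).mem_or_mem h1).elim hf hf₀q) hgq,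
    fun hm => ((inferInstance : y.IsPrime).mem_or_mem hm).elim hh' hgy,
    (dvd_mul_right f f₀).mul_right _, dvd_mul_left _ _, ?_, fun t ht => ?_⟩
  · simp only [map_mul, hf₀, ← IsScalarTower.algebraMap_apply, mul_assoc]
  · obtain ⟨x, hx, hxt⟩ := hgU (show t ∈ PrimeSpectrum.basicOpen g from ht)
    exact ⟨x, congrArg PrimeSpectrum.asIdeal hxt, hx⟩

open FlatMor in
/-- The standard shrinking attached to `f ∉ q` and `h' ∉ y` with `f ∣ h'` in `C`. -/
theorem exists_shrink
    {R S : Type u} [CommRing R] [CommRing S] [Algebra R S] [Algebra.FiniteType R S]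
    {N : Type u} [AddCommGroup N] [Module S N] [Module R N] [IsScalarTower R S N] [Module.Finite S N]
    {p : Ideal R} [p.IsPrime] {q : Ideal S} [q.IsPrime] [q.LiesOver p]
    {C D G : Type u} [CommRing C] [CommRing D] [Algebra S C] [Algebra R C] [IsScalarTower R S C]
    [Algebra R D] [Algebra D C] [IsScalarTower R D C] [AddCommGroup G] [Module C G] [Module S G]
    [IsScalarTower S C G] {n : ℕ}
    (h : FlatCA.IsOneStepDevissage R S N p C D G n)
    {z : Ideal C} [z.IsPrime] {y : Ideal D} [y.IsPrime] [z.LiesOver q] [z.LiesOver y] [y.LiesOver p]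
    (h1 : ∃ (ξ : PrimeSpectrum (p.Fiber S)) (hξ : ξ ∈ Module.support (p.Fiber S) (FlatCA.fiberMod p S N)),
      ξ.asIdeal = FlatCA.fiberIdeal p q ∧
      FlatMor.localDim (Module.support (p.Fiber S) (FlatCA.fiberMod p S N)) ⟨ξ, hξ⟩ = n)
    (h3 : ∀ (z₁ : Ideal C) [z₁.IsPrime], z₁.LiesOver y → z₁ = z)
    (h4 : FlatCA.PurelyTranscendental p y)
    (u : S) (hu : u ∉ q) (h' : D) (hh' : h' ∉ y) (hdvd : algebraMap S C u ∣ algebraMap D C h') :
    ∃ (g : R) (hX : S) (hZ : C), g ∉ p ∧ hX ∉ q ∧ hZ ∉ z ∧ h' * algebraMap R D g ∉ y ∧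
      IsUnit (algebraMap S (Localization.Away hX) u) ∧
      ∃ (_ : Algebra (Localization.Away g) (Localization.Away hX)) (_ : IsScalarTower R (Localization.Away g) (Localization.Away hX))
        (_ : Algebra (Localization.Away g) (Localization.Away hZ)) (_ : IsScalarTower R (Localization.Away g) (Localization.Away hZ))
        (_ : Algebra (Localization.Away g) (Localization.Away (h' * algebraMap R D g))) (_ : IsScalarTower R (Localization.Away g) (Localization.Away (h' * algebraMap R D g)))
        (_ : Algebra (Localization.Away hX) (Localization.Away hZ)) (_ : IsScalarTower S (Localization.Away hX) (Localization.Away hZ))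
        (_ : IsScalarTower (Localization.Away g) (Localization.Away hX) (Localization.Away hZ))
        (_ : Algebra (Localization.Away (h' * algebraMap R D g)) (Localization.Away hZ)) (_ : IsScalarTower D (Localization.Away (h' * algebraMap R D g)) (Localization.Away hZ))
        (_ : IsScalarTower (Localization.Away g) (Localization.Away (h' * algebraMap R D g)) (Localization.Away hZ))
        (_ : Module (Localization.Away g) (LocalizedModule (Submonoid.powers hX) N)) (_ : IsScalarTower (Localization.Away g) (Localization.Away hX) (LocalizedModule (Submonoid.powers hX) N))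
        (_ : Module (Localization.Away hX) (LocalizedModule (Submonoid.powers hZ) G)) (_ : IsScalarTower (Localization.Away hX) (Localization.Away hZ) (LocalizedModule (Submonoid.powers hZ) G))
        (_ : (Ideal.map (algebraMap R (Localization.Away g)) p).IsPrime) (_ : (Ideal.map (algebraMap D (Localization.Away (h' * algebraMap R D g))) y).IsPrime) (_ : (Ideal.map (algebraMap D (Localization.Away (h' * algebraMap R D g))) y).LiesOver (Ideal.map (algebraMap R (Localization.Away g)) p)),
        FlatCA.IsOneStepDevissage (Localization.Away g) (Localization.Away hX) (LocalizedModule (Submonoid.powers hX) N) (Ideal.map (algebraMap R (Localization.Away g)) p) (Localization.Away hZ) (Localization.Away (h' * algebraMap R D g)) (LocalizedModule (Submonoid.powers hZ) G) n ∧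
        (∃ (ξ : PrimeSpectrum ((Ideal.map (algebraMap R (Localization.Away g)) p).Fiber (Localization.Away hX)))
            (hξ : ξ ∈ Module.support ((Ideal.map (algebraMap R (Localization.Away g)) p).Fiber (Localization.Away hX)) (FlatCA.fiberMod (Ideal.map (algebraMap R (Localization.Away g)) p) (Localization.Away hX) (LocalizedModule (Submonoid.powers hX) N))),
          ξ.asIdeal = FlatCA.fiberIdeal (Ideal.map (algebraMap R (Localization.Away g)) p) (Ideal.map (algebraMap S (Localization.Away hX)) q) ∧
          FlatMor.localDim (Module.support ((Ideal.map (algebraMap R (Localization.Away g)) p).Fiber (Localization.Away hX)) (FlatCA.fiberMod (Ideal.map (algebraMap R (Localization.Away g)) p) (Localization.Away hX) (LocalizedModule (Submonoid.powers hX) N))) ⟨ξ, hξ⟩ = n) ∧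
        (Ideal.map (algebraMap C (Localization.Away hZ)) z).LiesOver (Ideal.map (algebraMap S (Localization.Away hX)) q) ∧ (Ideal.map (algebraMap C (Localization.Away hZ)) z).LiesOver (Ideal.map (algebraMap D (Localization.Away (h' * algebraMap R D g))) y) ∧
        (∀ (z₂ : Ideal (Localization.Away hZ)) [z₂.IsPrime], z₂.LiesOver (Ideal.map (algebraMap D (Localization.Away (h' * algebraMap R D g))) y) → z₂ = Ideal.map (algebraMap C (Localization.Away hZ)) z) ∧
        FlatCA.PurelyTranscendental (Ideal.map (algebraMap R (Localization.Away g)) p) (Ideal.map (algebraMap D (Localization.Away (h' * algebraMap R D g))) y) := by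
  obtain ⟨-, hsurj, -, -, -, hsm, hgi, -⟩ := id h
  haveI : Algebra.Smooth R D := DevissExLib.smooth_of_smoothRelDim hsm
  obtain ⟨g, hX, hgp, hXq, hYy, hfX, hgX, hC, hcov⟩ :=
    exists_shrink_data (p := p) (q := q) (z := z) (y := y) hsurj u hu h' hh'
  refine ⟨g, hX, algebraMap S C hX, hgp, hXq,
    fun hm => hXq (by rw [Ideal.over_def z q]; exact hm), hYy,
    isUnit_of_dvd_unit (map_dvd _ hfX) (IsLocalization.Away.algebraMap_isUnit hX), ?_⟩
  set hY := h' * algebraMap R D g with hhY
  let R' := Localization.Away g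
  let S' := Localization.Away hX
  let D' := Localization.Away hY
  let C' := Localization.Away (algebraMap S C hX)
  haveI : IsLocalization.Away (algebraMap D C hY) C' := by
    haveI : IsLocalization.Away (algebraMap S C u * algebraMap D C hY) C' := by
      rw [← hC]; infer_instance
    exact DevissExLib.away_of_dvd _ _ (hdvd.trans (map_dvd _ (dvd_mul_right _ _)))
  letI aRS : Algebra R' S' := (IsLocalization.Away.lift g (g := algebraMap R S') (by
    rw [IsScalarTower.algebraMap_apply R S S']
    exact isUnit_of_dvd_unit (map_dvd _ hgX) (IsLocalization.Away.algebraMap_isUnit hX))).toAlgebra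
  haveI : IsScalarTower R R' S' := IsScalarTower.of_algebraMap_eq fun a =>
    (IsLocalization.Away.lift_eq g _ a).symm
  letI aRD : Algebra R' D' := (IsLocalization.Away.lift g (g := algebraMap R D') (by
    rw [IsScalarTower.algebraMap_apply R D D']
    exact isUnit_of_dvd_unit (map_dvd _ (dvd_mul_left _ h')) (IsLocalization.Away.algebraMap_isUnit hY))).toAlgebra
  haveI : IsScalarTower R R' D' := IsScalarTower.of_algebraMap_eq fun a =>
    (IsLocalization.Away.lift_eq g _ a).symm
  letI aSC : Algebra S' C' := (IsLocalization.Away.lift hX (g := algebraMap S C') (by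
    rw [IsScalarTower.algebraMap_apply S C C']
    exact IsLocalization.Away.algebraMap_isUnit _)).toAlgebra
  haveI : IsScalarTower S S' C' := IsScalarTower.of_algebraMap_eq fun a =>
    (IsLocalization.Away.lift_eq hX _ a).symm
  letI aDC : Algebra D' C' := (IsLocalization.Away.lift hY (g := algebraMap D C') (by
    rw [IsScalarTower.algebraMap_apply D C C']
    exact IsLocalization.Away.algebraMap_isUnit _)).toAlgebra
  haveI : IsScalarTower D D' C' := IsScalarTower.of_algebraMap_eq fun a =>
    (IsLocalization.Away.lift_eq hY _ a).symm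
  letI aRC : Algebra R' C' := ((algebraMap S' C').comp (algebraMap R' S')).toAlgebra
  haveI : IsScalarTower R' S' C' := IsScalarTower.of_algebraMap_eq fun _ => rfl
  haveI : IsScalarTower R R' C' := IsScalarTower.of_algebraMap_eq fun a => by
    show _ = algebraMap S' C' (algebraMap R' S' (algebraMap R R' a))
    rw [← IsScalarTower.algebraMap_apply R R' S', IsScalarTower.algebraMap_apply R S S',
      ← IsScalarTower.algebraMap_apply S S' C', ← IsScalarTower.algebraMap_apply R S C']
  haveI : IsScalarTower R' D' C' := by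
    refine IsScalarTower.of_algebraMap_eq' (IsLocalization.ringHom_ext (Submonoid.powers g) (RingHom.ext fun b => ?_))
    simp only [RingHom.comp_apply]
    rw [← IsScalarTower.algebraMap_apply R R' C', ← IsScalarTower.algebraMap_apply R R' D',
      IsScalarTower.algebraMap_apply R D D', ← IsScalarTower.algebraMap_apply D D' C',
      IsScalarTower.algebraMap_apply D C C', ← IsScalarTower.algebraMap_apply R D C,
      ← IsScalarTower.algebraMap_apply R C C']
  let N' := LocalizedModule (Submonoid.powers hX) N
  let G' := LocalizedModule (Submonoid.powers (algebraMap S C hX)) G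
  letI mRN : Module R' N' := Module.compHom N' (algebraMap R' S')
  haveI : IsScalarTower R' S' N' := IsScalarTower.of_algebraMap_smul fun _ _ => rfl
  letI mSG : Module S' G' := Module.compHom G' (algebraMap S' C')
  haveI : IsScalarTower S' C' G' := IsScalarTower.of_algebraMap_smul fun _ _ => rfl
  haveI : Algebra.Etale D D' := Algebra.Etale.of_isLocalizationAway hY
  obtain ⟨i1, i2, i3, h'⟩ := shrink_at h h1 h3 h4 g hX hY hgp hXq hYy R' S' C' D'
    (DevissExLib.smoothRelDim_localization hsm g R' D') (DevissExLib.geomIrred_localization g _ hgi hcov R' D')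
    N' (LocalizedModule.mkLinearMap _ N) (IsLocalizedModule.isBaseChange (Submonoid.powers hX) S' _)
    G' (LocalizedModule.mkLinearMap _ G) (IsLocalizedModule.isBaseChange (Submonoid.powers (algebraMap S C hX)) C' _)
  exact ⟨aRS, inferInstance, aRC, inferInstance, aRD, inferInstance, aSC, inferInstance, inferInstance,
    aDC, inferInstance, inferInstance, mRN, inferInstance, mSG, inferInstance, i1, i2, i3, h'⟩

/-- An element of `D` outside `y` whose image in `C` is a multiple of a given element outside `z`. -/
theorem exists_dvd_of_unique {C D : Type u} [CommRing C] [CommRing D] [Algebra D C] [Module.Finite D C]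
    (z : Ideal C) (y : Ideal D) [y.IsPrime] (h3 : ∀ (z₁ : Ideal C) [z₁.IsPrime], z₁.LiesOver y → z₁ = z)
    (c : C) (hc : c ∉ z) : ∃ h' : D, h' ∉ y ∧ c ∣ algebraMap D C h' := by
  by_contra hcon
  push_neg at hcon
  obtain ⟨z₁, hz₁, hz₁p, hz₁y⟩ := Ideal.exists_ideal_over_prime_of_isIntegral y (Ideal.span {c})
    (fun x hx => by
      by_contra hxy
      exact hcon x hxy (Ideal.mem_span_singleton.1 hx))
  haveI := hz₁p
  exact hc (h3 z₁ ⟨hz₁y.symm⟩ ▸ hz₁ (Ideal.mem_span_singleton_self _))

end DevissShrinkLib
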