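import Groth.Agent.DevissShrinkLib.Push
import Groth.Agent.DevissExLib.Chain
import Mathlib

/-!
# Building complete dévissages index by index
-/

set_option autoImplicit false
set_option linter.all false

universe u

open scoped TensorProduct
open CategoryTheory

namespace DevissShrinkLib

variable {R S : Type u} [CommRing R] [CommRing S] [Algebra R S] {N : Type u} [AddCommGroup N] [Module S N]
  {p : Ideal R} [p.IsPrime]

/-- The data of one index of a changed dévissage. -/
structure Piece (𝒟 : FlatCA.CompleteDevissage R S N p) (R' : Type u) [CommRing R'] [Algebra R R'] (p' : Ideal R')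
    (K : Type u) [CommRing K] [Algebra R' K] (i : ℕ) : Type (u + 1) where
  A : Type u
  B : Type u
  M : Type u
  [cA : CommRing A] [cB : CommRing B] [aA : Algebra R' A] [aB : Algebra R' B] [aBA : Algebra B A]
  [tBA : IsScalarTower R' B A] [gM : AddCommGroup M] [mAM : Module A M]
  hp : (p'.map (algebraMap R' B)).IsPrime
  pt : B →ₐ[R'] K
  tl : ¬ i < 𝒟.n → (K →ₐ[R'] A)
  ia : i < 𝒟.n → (𝒟.A i →+* A)
  ib : i < 𝒟.n → (𝒟.B i →+* B)
  g : i < 𝒟.n → (𝒟.M i →+ M)
  ra : ∀ h, (ia h).comp (algebraMap R (𝒟.A i)) = (algebraMap R' A).comp (algebraMap R R')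
  rb : ∀ h, (ib h).comp (algebraMap R (𝒟.B i)) = (algebraMap R' B).comp (algebraMap R R')
  push : ∀ h, IsPushout (CommRingCat.ofHom (algebraMap (𝒟.B i) (𝒟.A i))) (CommRingCat.ofHom (ib h))
    (CommRingCat.ofHom (ia h)) (CommRingCat.ofHom (algebraMap B A))
  smul : ∀ h (a : 𝒟.A i) (m : 𝒟.M i), g h (a • m) = ia h a • g h m
  bc : ∀ h, letI := (ia h).toAlgebra; letI := Module.compHom M (ia h)
    haveI : IsScalarTower (𝒟.A i) A M := IsScalarTower.of_algebraMap_smul fun _ _ => rfl
    IsBaseChange A ({ toFun := g h, map_add' := map_add (g h), map_smul' := smul h } : 𝒟.M i →ₗ[𝒟.A i] M)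
  smooth : i < 𝒟.n → Algebra.Smooth R' B
  geomIrred : i < 𝒟.n → FlatCA.GeomIrredFibres R' B
  contr : ∀ h, (p'.map (algebraMap R' B)).comap (ib h) = p.map (algebraMap R (𝒟.B i))

attribute [instance] Piece.cA Piece.cB Piece.aA Piece.aB Piece.aBA Piece.tBA Piece.gM Piece.mAM Piece.hp

section

variable {𝒟 : FlatCA.CompleteDevissage R S N p} {R' : Type u} [CommRing R'] [Algebra R R'] {p' : Ideal R'} [p'.IsPrime]
  {K : Type u} [CommRing K] [Algebra R' K] {i : ℕ} (X : Piece 𝒟 R' p' K i)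

instance Piece.mBM : Module X.B X.M := Module.compHom X.M (algebraMap X.B X.A)

instance Piece.tBAM : IsScalarTower X.B X.A X.M := IsScalarTower.of_algebraMap_smul fun _ _ => rfl

instance Piece.mRM : Module R' X.M := Module.compHom X.M (algebraMap R' X.A)

instance Piece.tRBM : IsScalarTower R' X.B X.M := IsScalarTower.of_algebraMap_smul fun r m => by
  show algebraMap X.B X.A (algebraMap R' X.B r) • m = algebraMap R' X.A r • m
  rw [← IsScalarTower.algebraMap_apply]

theorem Piece.commA (h : i < 𝒟.n) (x : 𝒟.B i) :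
    algebraMap X.B X.A (X.ib h x) = X.ia h (algebraMap (𝒟.B i) (𝒟.A i) x) :=
  (RingHom.congr_fun (congrArg CommRingCat.Hom.hom (X.push h).w) x).symm

/-- The generators of the image of the free module. -/
noncomputable def Piece.vec : Fin (𝒟.r i) → X.M := fun j =>
  if h : i < 𝒟.n then X.g h (𝒟.α i (Pi.single j 1)) else 0

/-- The map from the free module. -/
noncomputable def Piece.α : (Fin (𝒟.r i) → X.B) →ₗ[X.B] X.M := Fintype.linearCombination X.B X.vec

theorem Piece.α_single (h : i < 𝒟.n) (j : Fin (𝒟.r i)) : X.α (Pi.single j 1) = X.g h (𝒟.α i (Pi.single j 1)) := by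
  rw [Piece.α, Fintype.linearCombination_apply_single, one_smul, Piece.vec, dif_pos h]

theorem Piece.g_smulB (h : i < 𝒟.n) (b : 𝒟.B i) (m : 𝒟.M i) : X.g h (b • m) = X.ib h b • X.g h m := by
  rw [← algebraMap_smul (𝒟.A i) b m, X.smul, ← X.commA]
  rfl

theorem Piece.range_α (h : i < 𝒟.n) :
    LinearMap.range X.α = Submodule.span X.B (X.g h '' (LinearMap.range (𝒟.α i) : Set (𝒟.M i))) := by
  classical
  refine le_antisymm ?_ (Submodule.span_le.2 ?_)
  · rw [Piece.α, Fintype.range_linearCombination, Submodule.span_le]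
    rintro _ ⟨j, rfl⟩
    exact Submodule.subset_span ⟨_, LinearMap.mem_range_self _ (Pi.single j 1), by rw [Piece.vec, dif_pos h]⟩
  · rintro _ ⟨_, ⟨v, rfl⟩, rfl⟩
    rw [← Finset.univ_sum_single v, map_sum, map_sum]
    refine Submodule.sum_mem _ fun j _ => ?_
    rw [show (Pi.single j (v j) : Fin (𝒟.r i) → 𝒟.B i) = v j • Pi.single j 1 from by
      rw [← Pi.single_smul', smul_eq_mul, mul_one], map_smul, X.g_smulB, ← X.α_single h]
    exact Submodule.smul_mem _ _ (LinearMap.mem_range_self _ _)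

theorem Piece.basics (h : i < 𝒟.n) :
    Module.Finite X.B X.A ∧ Module.Finite X.A X.M ∧
      Function.Bijective (X.α.baseChange (p'.map (algebraMap R' X.B)).ResidueField) ∧
      (Function.Surjective (𝒟.α i) → Function.Surjective X.α) ∧
      ∃ (_ : Algebra (𝒟.B i) X.B) (_ : Module (𝒟.B i) X.M) (_ : IsScalarTower (𝒟.B i) X.B X.M)
        (gB : 𝒟.M i →ₗ[𝒟.B i] X.M), IsBaseChange X.B gB ∧ (∀ m, gB m = X.g h m) ∧
          ∀ b, algebraMap (𝒟.B i) X.B b = X.ib h b := by
  letI aA : Algebra (𝒟.A i) X.A := (X.ia h).toAlgebra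
  letI aB : Algebra (𝒟.B i) X.B := (X.ib h).toAlgebra
  letI aBA : Algebra (𝒟.B i) X.A := ((X.ia h).comp (algebraMap (𝒟.B i) (𝒟.A i))).toAlgebra
  haveI : IsScalarTower (𝒟.B i) (𝒟.A i) X.A := IsScalarTower.of_algebraMap_eq fun _ => rfl
  haveI : IsScalarTower (𝒟.B i) X.B X.A := IsScalarTower.of_algebraMap_eq fun b => (X.commA h b).symm
  haveI : Algebra.IsPushout (𝒟.B i) X.B (𝒟.A i) X.A :=
    CommRingCat.isPushout_iff_isPushout.mp (X.push h).flip
  letI mA : Module (𝒟.A i) X.M := Module.compHom X.M (X.ia h)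
  haveI : IsScalarTower (𝒟.A i) X.A X.M := IsScalarTower.of_algebraMap_smul fun _ _ => rfl
  letI mB : Module (𝒟.B i) X.M := Module.compHom X.M (algebraMap (𝒟.B i) X.A)
  haveI : IsScalarTower (𝒟.B i) (𝒟.A i) X.M := IsScalarTower.of_algebraMap_smul fun _ _ => rfl
  haveI : IsScalarTower (𝒟.B i) X.B X.M := IsScalarTower.of_algebraMap_smul fun b m => by
    show algebraMap X.B X.A (X.ib h b) • m = algebraMap (𝒟.B i) X.A b • m
    rw [X.commA]
    rfl
  let g : 𝒟.M i →ₗ[𝒟.A i] X.M := { toFun := X.g h, map_add' := map_add (X.g h), map_smul' := X.smul h }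
  have hg : IsBaseChange X.A g := X.bc h
  have hgB : IsBaseChange X.B (g.restrictScalars (𝒟.B i)) := isBaseChange_restrict g hg
  haveI := 𝒟.finiteM i h
  refine ⟨finite_pushout (P := 𝒟.B i) (Q := 𝒟.A i) (𝒟.finiteBA i h), Module.Finite.equiv hg.equiv, ?_, ?_,
    aB, mB, inferInstance, g.restrictScalars (𝒟.B i), hgB, fun _ => rfl, fun _ => rfl⟩
  · exact bijective_baseChange_residue (g.restrictScalars (𝒟.B i)) hgB (𝒟.α i) X.α (X.α_single h)
      (p.map (algebraMap R (𝒟.B i))) _ (X.contr h) (𝒟.fibreIso i h)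
  · intro hs
    rw [← LinearMap.range_eq_top, X.range_α h, eq_top_iff]
    refine fun x _ => hgB.inductionOn x _ (zero_mem _) (fun m => Submodule.subset_span ⟨m, hs m, rfl⟩)
      (fun c n hn => Submodule.smul_mem _ c hn) (fun _ _ => add_mem)

end

section Build

variable {𝒟 : FlatCA.CompleteDevissage R S N p} {R' : Type u} [CommRing R'] [Algebra R R'] {p' : Ideal R'} [p'.IsPrime]
  {K : Type u} [CommRing K] [Algebra R' K] (X : ∀ i, Piece 𝒟 R' p' K i)

/-- The compatible maps between consecutive indices. -/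
structure Links : Type u where
  ψ : ∀ i, i + 1 < 𝒟.n → ((X i).B →ₐ[R'] (X (i + 1)).A)
  push : ∀ i (h : i + 1 < 𝒟.n), IsPushout (CommRingCat.ofHom (algebraMap (𝒟.B i) (𝒟.A (i + 1))))
    (CommRingCat.ofHom ((X i).ib (Nat.lt_of_succ_lt h))) (CommRingCat.ofHom ((X (i + 1)).ia h))
    (CommRingCat.ofHom (ψ i h).toRingHom)

variable {X}

/-- The map to the next index. -/
noncomputable def Links.map (L : Links X) (i : ℕ) : (X i).B →ₐ[R'] (X (i + 1)).A :=
  if h : i + 1 < 𝒟.n then L.ψ i h else ((X (i + 1)).tl h).comp (X i).pt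

theorem Links.map_eq (L : Links X) (i : ℕ) (h : i + 1 < 𝒟.n) (b : 𝒟.B i) :
    L.map i ((X i).ib (Nat.lt_of_succ_lt h) b) = (X (i + 1)).ia h (algebraMap (𝒟.B i) (𝒟.A (i + 1)) b) := by
  rw [Links.map, dif_pos h]
  exact (RingHom.congr_fun (congrArg CommRingCat.Hom.hom (L.push i h).w) b).symm

theorem Links.coker (L : Links X) (i : ℕ) (h : i + 1 < 𝒟.n) :
    Function.Surjective (L.map i) ∧ (L.map i).toRingHom.FinitePresentation ∧
      (letI := Module.compHom (X (i + 1)).M (L.map i).toRingHom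
       Nonempty (((X i).M ⧸ LinearMap.range (X i).α) ≃ₗ[(X i).B] (X (i + 1)).M)) := by
  obtain ⟨-, -, -, -, aB, mB, tB, gB, hgB, hgB', haB⟩ := (X i).basics (Nat.lt_of_succ_lt h)
  letI := aB
  letI := mB
  haveI := tB
  letI aA : Algebra (𝒟.A (i + 1)) (X (i + 1)).A := ((X (i + 1)).ia h).toAlgebra
  letI aBA : Algebra (𝒟.B i) (X (i + 1)).A :=
    (((X (i + 1)).ia h).comp (algebraMap (𝒟.B i) (𝒟.A (i + 1)))).toAlgebra
  letI aB'A : Algebra (X i).B (X (i + 1)).A := (L.map i).toRingHom.toAlgebra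
  haveI : IsScalarTower (𝒟.B i) (𝒟.A (i + 1)) (X (i + 1)).A := IsScalarTower.of_algebraMap_eq fun _ => rfl
  haveI : IsScalarTower (𝒟.B i) (X i).B (X (i + 1)).A := IsScalarTower.of_algebraMap_eq fun b => by
    show (X (i + 1)).ia h _ = L.map i (algebraMap (𝒟.B i) (X i).B b)
    rw [haB, L.map_eq i h]
  haveI : Algebra.IsPushout (𝒟.B i) (X i).B (𝒟.A (i + 1)) (X (i + 1)).A := by
    refine CommRingCat.isPushout_iff_isPushout.mp ?_
    have h1 := (L.push i h).flip
    have e1 : algebraMap (𝒟.B i) (X i).B = (X i).ib (Nat.lt_of_succ_lt h) := RingHom.ext haB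
    have e2 : algebraMap (X i).B (X (i + 1)).A = (L.ψ i h).toRingHom := by
      show (L.map i).toRingHom = _
      rw [Links.map, dif_pos h]
    rw [e1, e2]
    exact h1
  letI mA : Module (𝒟.A (i + 1)) (X (i + 1)).M := Module.compHom (X (i + 1)).M ((X (i + 1)).ia h)
  haveI : IsScalarTower (𝒟.A (i + 1)) (X (i + 1)).A (X (i + 1)).M := IsScalarTower.of_algebraMap_smul fun _ _ => rfl
  letI mB1 : Module (𝒟.B i) (X (i + 1)).M := Module.compHom (X (i + 1)).M (algebraMap (𝒟.B i) (X (i + 1)).A)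
  haveI : IsScalarTower (𝒟.B i) (𝒟.A (i + 1)) (X (i + 1)).M := IsScalarTower.of_algebraMap_smul fun _ _ => rfl
  letI mB2 : Module (X i).B (X (i + 1)).M := Module.compHom (X (i + 1)).M (L.map i).toRingHom
  haveI : IsScalarTower (X i).B (X (i + 1)).A (X (i + 1)).M := IsScalarTower.of_algebraMap_smul fun _ _ => rfl
  haveI : IsScalarTower (𝒟.B i) (X i).B (X (i + 1)).M := IsScalarTower.of_algebraMap_smul fun b m => by
    show L.map i (algebraMap (𝒟.B i) (X i).B b) • m = (X (i + 1)).ia h (algebraMap (𝒟.B i) (𝒟.A (i + 1)) b) • m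
    rw [haB, L.map_eq i h]
  refine ⟨surjective_pushout (P := 𝒟.B i) (Q := 𝒟.A (i + 1)) (𝒟.surjBA' i h),
    RingHom.finitePresentation_algebraMap.2 (finitePresentation_pushout (P := 𝒟.B i) (Q := 𝒟.A (i + 1)) (𝒟.fpBA' i h)), ?_⟩
  obtain ⟨gq, hgq, -⟩ := DevissExLib.isBaseChange_quotient gB hgB (LinearMap.range (𝒟.α i)) (LinearMap.range (X i).α)
    (by rw [(X i).range_α (Nat.lt_of_succ_lt h)]; congr 1; exact Set.image_congr fun m _ => (hgB' m).symm)
  let g1 : 𝒟.M (i + 1) →ₗ[𝒟.A (i + 1)] (X (i + 1)).M :=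
    { toFun := (X (i + 1)).g h, map_add' := map_add ((X (i + 1)).g h), map_smul' := (X (i + 1)).smul h }
  have hg1 : IsBaseChange (X (i + 1)).A g1 := (X (i + 1)).bc h
  exact ⟨hgq.equiv.symm.trans
    ((TensorProduct.AlgebraTensorModule.congr (LinearEquiv.refl (X i).B (X i).B) (𝒟.isoCoker i h)).trans
      (isBaseChange_restrict (P := 𝒟.B i) (P' := (X i).B) (Q' := (X (i + 1)).A) g1 hg1).equiv)⟩

variable (X)

/-- The initial link. -/
structure Start (S' : Type u) [CommRing S'] [Algebra R' S'] [Algebra S S'] : Type u where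
  σ : S' →ₐ[R'] (X 0).A
  push : IsPushout (CommRingCat.ofHom (algebraMap S (𝒟.A 0))) (CommRingCat.ofHom (algebraMap S S'))
    (CommRingCat.ofHom ((X 0).ia 𝒟.pos)) (CommRingCat.ofHom σ.toRingHom)

variable {X} {S' : Type u} [CommRing S'] [Algebra R' S'] [Algebra S S']
  {N' : Type u} [AddCommGroup N'] [Module S' N'] [Module S N'] [IsScalarTower S S' N']
  {f : N →ₗ[S] N'}

theorem Start.props (T : Start X S') (hf : IsBaseChange S' f) :
    Function.Surjective T.σ ∧ T.σ.toRingHom.FinitePresentation ∧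
      (letI := Module.compHom (X 0).M T.σ.toRingHom
       ∃ e : N' ≃ₗ[S'] (X 0).M, ∀ x, e (f x) = (X 0).g 𝒟.pos (𝒟.isoN x)) := by
  letI aA : Algebra (𝒟.A 0) (X 0).A := ((X 0).ia 𝒟.pos).toAlgebra
  letI aSA : Algebra S (X 0).A := (((X 0).ia 𝒟.pos).comp (algebraMap S (𝒟.A 0))).toAlgebra
  letI aS'A : Algebra S' (X 0).A := T.σ.toRingHom.toAlgebra
  haveI : IsScalarTower S (𝒟.A 0) (X 0).A := IsScalarTower.of_algebraMap_eq fun _ => rfl
  haveI : IsScalarTower S S' (X 0).A := IsScalarTower.of_algebraMap_eq fun b =>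
    RingHom.congr_fun (congrArg CommRingCat.Hom.hom T.push.w) b
  haveI : Algebra.IsPushout S S' (𝒟.A 0) (X 0).A := CommRingCat.isPushout_iff_isPushout.mp T.push.flip
  letI mA : Module (𝒟.A 0) (X 0).M := Module.compHom (X 0).M ((X 0).ia 𝒟.pos)
  haveI : IsScalarTower (𝒟.A 0) (X 0).A (X 0).M := IsScalarTower.of_algebraMap_smul fun _ _ => rfl
  letI mS : Module S (X 0).M := Module.compHom (X 0).M (algebraMap S (X 0).A)
  haveI : IsScalarTower S (𝒟.A 0) (X 0).M := IsScalarTower.of_algebraMap_smul fun _ _ => rfl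
  letI mS' : Module S' (X 0).M := Module.compHom (X 0).M T.σ.toRingHom
  haveI : IsScalarTower S' (X 0).A (X 0).M := IsScalarTower.of_algebraMap_smul fun _ _ => rfl
  haveI : IsScalarTower S S' (X 0).M := IsScalarTower.of_algebraMap_smul fun b m => by
    show T.σ (algebraMap S S' b) • m = algebraMap S (X 0).A b • m
    rw [IsScalarTower.algebraMap_apply S S' (X 0).A b]
    rfl
  refine ⟨surjective_pushout (P := S) (Q := 𝒟.A 0) 𝒟.surjSA,
    RingHom.finitePresentation_algebraMap.2 (finitePresentation_pushout (P := S) (Q := 𝒟.A 0) 𝒟.fpSA), ?_⟩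
  let g0 : 𝒟.M 0 →ₗ[𝒟.A 0] (X 0).M :=
    { toFun := (X 0).g 𝒟.pos, map_add' := map_add ((X 0).g 𝒟.pos), map_smul' := (X 0).smul 𝒟.pos }
  have hb := isBaseChange_restrict (P := S) (P' := S') (Q' := (X 0).A) g0 ((X 0).bc 𝒟.pos)
  refine ⟨hf.equiv.symm.trans ((TensorProduct.AlgebraTensorModule.congr (LinearEquiv.refl S' S') 𝒟.isoN).trans
    hb.equiv), fun x => ?_⟩
  rw [LinearEquiv.trans_apply, LinearEquiv.trans_apply,
    show hf.equiv.symm (f x) = 1 ⊗ₜ[S] x from by rw [LinearEquiv.symm_apply_eq, hf.equiv_tmul, one_smul],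
    TensorProduct.AlgebraTensorModule.congr_tmul, LinearEquiv.refl_apply, hb.equiv_tmul, one_smul]
  rfl

/-- The changed complete dévissage. -/
noncomputable def build (X : ∀ i, Piece 𝒟 R' p' K i) (L : Links X) (T : Start X S') (hf : IsBaseChange S' f) :
    FlatCA.CompleteDevissage R' S' N' p' :=
  letI aBA' : ∀ i, Algebra (X i).B (X (i + 1)).A := fun i => (L.map i).toRingHom.toAlgebra
  letI aSA : Algebra S' (X 0).A := T.σ.toRingHom.toAlgebra
  { n := 𝒟.n, pos := 𝒟.pos
    A := fun i => (X i).A, B := fun i => (X i).B, M := fun i => (X i).M, r := 𝒟.r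
    hp := fun i => (X i).hp
    tRSA := IsScalarTower.of_algebraMap_eq fun a => (T.σ.commutes a).symm
    tRBA' := fun i => IsScalarTower.of_algebraMap_eq fun a => ((L.map i).commutes a).symm
    mSM := Module.compHom (X 0).M T.σ.toRingHom
    tSAM := letI := Module.compHom (X 0).M T.σ.toRingHom; IsScalarTower.of_algebraMap_smul fun _ _ => rfl
    mB'M := fun i => Module.compHom (X (i + 1)).M (L.map i).toRingHom
    tB'AM := fun i => letI := Module.compHom (X (i + 1)).M (L.map i).toRingHom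
      IsScalarTower.of_algebraMap_smul fun _ _ => rfl
    α := fun i => (X i).α
    surjSA := (T.props hf).1
    fpSA := RingHom.finitePresentation_algebraMap.1 (T.props hf).2.1
    surjBA' := fun i h => (L.coker i h).1
    fpBA' := fun i h => RingHom.finitePresentation_algebraMap.1 (L.coker i h).2.1
    finiteBA := fun i h => ((X i).basics h).1
    smooth := fun i h => (X i).smooth h
    geomIrred := fun i h => (X i).geomIrred h
    finiteM := fun i h => ((X i).basics h).2.1
    isoN := (T.props hf).2.2.choose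
    isoCoker := fun i h => (L.coker i h).2.2.some
    fibreIso := fun i h => ((X i).basics h).2.2.1
    cokerLast := ((X (𝒟.n - 1)).basics (Nat.sub_one_lt_of_lt 𝒟.pos)).2.2.2.1 𝒟.cokerLast }

theorem build_isoN (X : ∀ i, Piece 𝒟 R' p' K i) (L : Links X) (T : Start X S') (hf : IsBaseChange S' f) (x : N) :
    (build X L T hf).isoN (f x) = (X 0).g 𝒟.pos (𝒟.isoN x) :=
  (T.props hf).2.2.choose_spec x

end Build

end DevissShrinkLib
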