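import Groth.Agent.DevissShrinkLib.LocPieces
import Mathlib

/-!
# Standard shrinkings of complete dévissages
-/

set_option autoImplicit false
set_option linter.all false
set_option maxHeartbeats 1600000

universe u

open scoped TensorProduct
open CategoryTheory

namespace DevissShrinkLib

theorem exists_cover {R S : Type u} [CommRing R] [CommRing S] [Algebra R S] {N : Type u} [AddCommGroup N] [Module S N]
    {p : Ideal R} [p.IsPrime] {q : Ideal S} [q.IsPrime] (𝒟 : FlatCA.CompleteDevissage R S N p)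
    (𝒜 : FlatCA.CompleteDevissageAt R S N p q 𝒟) (β : ∀ i, 𝒟.B i) (hβ : ∀ i, i < 𝒟.n → β i ∉ 𝒜.qB i) :
    ∃ g : R, g ∉ p ∧ ∀ i, i < 𝒟.n → ∀ t : PrimeSpectrum R, g ∉ t.asIdeal →
      ∃ x : PrimeSpectrum (𝒟.B i), x.asIdeal.comap (algebraMap R (𝒟.B i)) = t.asIdeal ∧ β i ∉ x.asIdeal := by
  classical
  have h : ∀ i : Fin 𝒟.n, ∃ g : R, g ∉ p ∧ ∀ t : PrimeSpectrum R, g ∉ t.asIdeal →
      ∃ x : PrimeSpectrum (𝒟.B i), x.asIdeal.comap (algebraMap R (𝒟.B i)) = t.asIdeal ∧ β i ∉ x.asIdeal := by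
    intro i
    haveI := 𝒜.hqB i
    haveI := 𝒜.overB i
    haveI := 𝒟.smooth i i.2
    let U := PrimeSpectrum.comap (algebraMap R (𝒟.B i)) '' (PrimeSpectrum.basicOpen (β i) : Set (PrimeSpectrum (𝒟.B i)))
    have hU : IsOpen U := by
      haveI : AlgebraicGeometry.Smooth (AlgebraicGeometry.Spec.map (CommRingCat.ofHom (algebraMap R (𝒟.B i)))) := by
        rw [AlgebraicGeometry.HasRingHomProperty.Spec_iff (P := @AlgebraicGeometry.Smooth)]
        exact RingHom.smooth_algebraMap.2 inferInstance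
      exact (AlgebraicGeometry.Spec.map (CommRingCat.ofHom (algebraMap R (𝒟.B i)))).isOpenMap _
        (PrimeSpectrum.basicOpen (β i)).isOpen
    obtain ⟨_, ⟨g, rfl⟩, hgp, hgU⟩ :=
      PrimeSpectrum.isTopologicalBasis_basic_opens.exists_subset_of_mem_open
        (⟨⟨𝒜.qB i, inferInstance⟩, hβ i i.2, PrimeSpectrum.ext (Ideal.over_def (𝒜.qB i) p).symm⟩ :
          (⟨p, inferInstance⟩ : PrimeSpectrum R) ∈ U) hU
    refine ⟨g, hgp, fun t ht => ?_⟩
    obtain ⟨x, hx, hxt⟩ := hgU (show t ∈ PrimeSpectrum.basicOpen g from ht)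
    exact ⟨x, congrArg PrimeSpectrum.asIdeal hxt, hx⟩
  choose g hgp hg using h
  refine ⟨∏ i, g i, fun hm => ?_, fun i hi t ht => hg ⟨i, hi⟩ t fun hm => ht
    (Ideal.mem_of_dvd _ (Finset.dvd_prod_of_mem g (Finset.mem_univ _)) hm)⟩
  obtain ⟨i, -, hi⟩ := Ideal.IsPrime.prod_mem_iff.1 hm
  exact hgp i hi

open FlatMor in
/-- The standard shrinking attached to a system of elements outside the points. -/
theorem exists_complete_shrink
    (R S : Type u) [CommRing R] [CommRing S] [Algebra R S] [Algebra.FiniteType R S]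
    (N : Type u) [AddCommGroup N] [Module S N] [Module.Finite S N]
    (p : Ideal R) [p.IsPrime] (q : Ideal S) [q.IsPrime] (𝒟 : FlatCA.CompleteDevissage R S N p)
    (𝒜 : FlatCA.CompleteDevissageAt R S N p q 𝒟)
    (β : ∀ i, 𝒟.B i) (f₀ : S) (c : ∀ i, 𝒟.A i) (hf₀ : f₀ ∉ q)
    (hβ : ∀ i, i < 𝒟.n → β i ∉ 𝒜.qB i ∧ c i ∣ algebraMap (𝒟.B i) (𝒟.A i) (β i))
    (h0 : algebraMap S (𝒟.A 0) f₀ = c 0 * algebraMap (𝒟.B 0) (𝒟.A 0) (β 0))
    (hs : ∀ i, i + 1 < 𝒟.n → algebraMap (𝒟.B i) (𝒟.A (i + 1)) (β i) =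
      c (i + 1) * algebraMap (𝒟.B (i + 1)) (𝒟.A (i + 1)) (β (i + 1))) :
    ∃ (g : R) (hX : S), g ∉ p ∧ hX ∉ q ∧ f₀ ∣ hX ∧
      ∃ (_ : Algebra (Localization.Away g) (Localization.Away hX)) (_ : IsScalarTower R (Localization.Away g) (Localization.Away hX))
        (_ : Module (Localization.Away g) (LocalizedModule (Submonoid.powers hX) N)) (_ : IsScalarTower (Localization.Away g) (Localization.Away hX) (LocalizedModule (Submonoid.powers hX) N))
        (_ : (Ideal.map (algebraMap R (Localization.Away g)) p).IsPrime) (_ : (Ideal.map (algebraMap S (Localization.Away hX)) q).IsPrime)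
        (𝒟' : FlatCA.CompleteDevissage (Localization.Away g) (Localization.Away hX) (LocalizedModule (Submonoid.powers hX) N) (Ideal.map (algebraMap R (Localization.Away g)) p))
        (𝒜' : FlatCA.CompleteDevissageAt (Localization.Away g) (Localization.Away hX) (LocalizedModule (Submonoid.powers hX) N) (Ideal.map (algebraMap R (Localization.Away g)) p) (Ideal.map (algebraMap S (Localization.Away hX)) q) 𝒟')
        (a : ∀ i : Fin 𝒟.n, 𝒟.A i) (b : ∀ i : Fin 𝒟.n, 𝒟.B i)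
      (aA : ∀ i : Fin 𝒟.n, Algebra (𝒟.A i) (𝒟'.A i)) (rA : ∀ i : Fin 𝒟.n, Algebra R (𝒟'.A i))
      (_t1 : ∀ i : Fin 𝒟.n, IsScalarTower R (Localization.Away g) (𝒟'.A i)) (_t2 : ∀ i : Fin 𝒟.n, IsScalarTower R (𝒟.A i) (𝒟'.A i))
      (aB : ∀ i : Fin 𝒟.n, Algebra (𝒟.B i) (𝒟'.B i)) (rB : ∀ i : Fin 𝒟.n, Algebra R (𝒟'.B i))
      (_t3 : ∀ i : Fin 𝒟.n, IsScalarTower R (Localization.Away g) (𝒟'.B i)) (_t4 : ∀ i : Fin 𝒟.n, IsScalarTower R (𝒟.B i) (𝒟'.B i))
      (bA : ∀ i : Fin 𝒟.n, Algebra (𝒟.B i) (𝒟'.A i)) (_t5 : ∀ i : Fin 𝒟.n, IsScalarTower (𝒟.B i) (𝒟.A i) (𝒟'.A i))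
      (_t6 : ∀ i : Fin 𝒟.n, IsScalarTower (𝒟.B i) (𝒟'.B i) (𝒟'.A i))
      (bA' : ∀ i : Fin 𝒟.n, Algebra (𝒟.B i) (𝒟'.A (i + 1)))
      (_t7 : ∀ i : Fin 𝒟.n, IsScalarTower (𝒟.B i) (𝒟'.B i) (𝒟'.A (i + 1)))
      (sA : Algebra S (𝒟'.A 0)) (_t8 : IsScalarTower S (Localization.Away hX) (𝒟'.A 0))
      (mA : ∀ i : Fin 𝒟.n, Module (𝒟.A i) (𝒟'.M i)) (_t9 : ∀ i : Fin 𝒟.n, IsScalarTower (𝒟.A i) (𝒟'.A i) (𝒟'.M i))
      (gM : ∀ i : Fin 𝒟.n, 𝒟.M i →ₗ[𝒟.A i] 𝒟'.M i),
        𝒟'.n = 𝒟.n ∧ 𝒟'.r = 𝒟.r ∧ 𝒜'.d = 𝒜.d ∧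
        (letI := aA ⟨0, 𝒟.pos⟩; IsScalarTower S (𝒟.A 0) (𝒟'.A 0)) ∧
      (∀ x : N, 𝒟'.isoN (LocalizedModule.mkLinearMap (Submonoid.powers hX) N x) = gM ⟨0, 𝒟.pos⟩ (𝒟.isoN x)) ∧
      (∀ (i : Fin 𝒟.n) (h : (i : ℕ) + 1 < 𝒟.n),
        letI := aA ⟨i + 1, h⟩; IsScalarTower (𝒟.B i) (𝒟.A (i + 1)) (𝒟'.A (i + 1))) ∧
        b ⟨𝒟.n - 1, Nat.sub_one_lt_of_lt 𝒟.pos⟩ = β (𝒟.n - 1) * algebraMap R (𝒟.B (𝒟.n - 1)) g ∧
        ∀ i : Fin 𝒟.n,
          a i ∉ 𝒜.qA i ∧ b i ∉ 𝒜.qB i ∧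
          IsLocalization.Away (a i) (𝒟'.A i) ∧ IsLocalization.Away (b i) (𝒟'.B i) ∧
          IsLocalizedModule (Submonoid.powers (a i)) (gM i) ∧
          (𝒜'.qA i).LiesOver (𝒜.qA i) ∧ (𝒜'.qB i).LiesOver (𝒜.qB i) ∧
          LinearMap.range (𝒟'.α i) =
            Submodule.span (𝒟'.B i) ((gM i) '' (LinearMap.range (𝒟.α i) : Set (𝒟.M i))) := by
  classical
  haveI := 𝒜.hqB
  haveI := 𝒜.hqA
  haveI := 𝒜.overB
  haveI := 𝒜.overA
  haveI hqp : q.LiesOver p := ⟨by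
    show p = q.comap (algebraMap R S)
    rw [← 𝒜.q0, Ideal.comap_comap, ← IsScalarTower.algebraMap_eq, IsScalarTower.algebraMap_eq R (𝒟.B 0) (𝒟.A 0),
      ← Ideal.comap_comap]
    exact (Ideal.over_def (𝒜.qB 0) p).trans (congrArg (Ideal.comap _) (Ideal.over_def (𝒜.qA 0) (𝒜.qB 0)))⟩
  obtain ⟨g, hgp, hcov⟩ := exists_cover 𝒟 𝒜 β (fun i hi => (hβ i hi).1)
  have hgq : algebraMap R S g ∉ q := fun hm => hgp (show g ∈ p by rw [Ideal.over_def q p]; exact hm)
  let hX := f₀ * algebraMap R S g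
  have hXq : hX ∉ q := fun hm => ((inferInstance : q.IsPrime).mem_or_mem hm).elim hf₀ hgq
  refine ⟨g, hX, hgp, hXq, dvd_mul_right _ _, ?_⟩
  let R' := Localization.Away g
  let S' := Localization.Away hX
  let N' := LocalizedModule (Submonoid.powers hX) N
  letI aRS : Algebra R' S' := (IsLocalization.Away.lift g (g := algebraMap R S') (by
    rw [IsScalarTower.algebraMap_apply R S S']
    exact isUnit_of_dvd_unit (map_dvd _ (dvd_mul_left _ f₀)) (IsLocalization.Away.algebraMap_isUnit hX))).toAlgebra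
  haveI : IsScalarTower R R' S' := IsScalarTower.of_algebraMap_eq fun a =>
    (IsLocalization.Away.lift_eq g _ a).symm
  letI mRN : Module R' N' := Module.compHom N' (algebraMap R' S')
  haveI : IsScalarTower R' S' N' := IsScalarTower.of_algebraMap_smul fun _ _ => rfl
  obtain ⟨hp', hpc⟩ := map_prime_of_away R' g p hgp
  obtain ⟨hq', hqc⟩ := map_prime_of_away S' hX q hXq
  haveI := hp'
  haveI := hq'
  let p' := p.map (algebraMap R R')
  haveI hpp : p'.LiesOver p := ⟨hpc.symm⟩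
  let bb : ∀ i, 𝒟.B i := fun i => β i * algebraMap R (𝒟.B i) g
  let aa : ∀ i, 𝒟.A i := fun i => c i * algebraMap (𝒟.B i) (𝒟.A i) (bb i)
  have hbb : ∀ i, i < 𝒟.n → bb i ∉ 𝒜.qB i := fun i hi hm => ((𝒜.hqB i).mem_or_mem hm).elim (hβ i hi).1 fun h1 =>
    hgp (show g ∈ p by rw [Ideal.over_def (𝒜.qB i) p]; exact h1)
  have haa : ∀ i, i + 1 < 𝒟.n → algebraMap (𝒟.B i) (𝒟.A (i + 1)) (bb i) = aa (i + 1) := fun i hi => by
    simp only [bb, aa, map_mul, hs i hi, ← IsScalarTower.algebraMap_apply, mul_assoc]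
  have haaq : ∀ i, i < 𝒟.n → aa i ∉ 𝒜.qA i := by
    intro i hi hm
    have h1 : algebraMap (𝒟.B i) (𝒟.A i) (bb i) ∉ 𝒜.qA i := fun h2 =>
      hbb i hi (by rw [Ideal.over_def (𝒜.qA i) (𝒜.qB i)]; exact h2)
    refine ((𝒜.hqA i).mem_or_mem hm).elim (fun h2 => h1 ?_) h1
    exact Ideal.mem_of_dvd _ ((hβ i hi).2.trans (map_dvd _ (dvd_mul_right _ _))) h2
  choose X hX' hXt using fun i => exists_loc_piece 𝒟 𝒜 g R' p' hgp i (β i) (c i) (hβ i) (hcov i)
  -- the links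
  have key : ∀ i (h : i + 1 < 𝒟.n), ∃ ψ : (X i).B →ₐ[R'] (X (i + 1)).A,
      IsPushout (CommRingCat.ofHom (algebraMap (𝒟.B i) (𝒟.A (i + 1))))
        (CommRingCat.ofHom ((X i).ib (Nat.lt_of_succ_lt h))) (CommRingCat.ofHom ((X (i + 1)).ia h))
        (CommRingCat.ofHom ψ.toRingHom) := by
    intro i h
    have hi : i < 𝒟.n := Nat.lt_of_succ_lt h
    letI : Algebra (𝒟.B i) (X i).B := ((X i).ib hi).toAlgebra
    letI : Algebra (𝒟.A (i + 1)) (X (i + 1)).A := ((X (i + 1)).ia h).toAlgebra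
    letI : Algebra (𝒟.B i) (X (i + 1)).A :=
      (((X (i + 1)).ia h).comp (algebraMap (𝒟.B i) (𝒟.A (i + 1)))).toAlgebra
    haveI : IsScalarTower (𝒟.B i) (𝒟.A (i + 1)) (X (i + 1)).A := IsScalarTower.of_algebraMap_eq fun _ => rfl
    haveI hB : IsLocalization.Away (bb i) (X i).B := (hX' i hi).1
    haveI hA : IsLocalization.Away (algebraMap (𝒟.B i) (𝒟.A (i + 1)) (bb i)) (X (i + 1)).A := by
      rw [haa i h]; exact (hX' (i + 1) h).2.1.1
    let φ : (X i).B →+* (X (i + 1)).A := IsLocalization.Away.lift (bb i) (g := algebraMap (𝒟.B i) (X (i + 1)).A) (by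
      rw [IsScalarTower.algebraMap_apply (𝒟.B i) (𝒟.A (i + 1)) (X (i + 1)).A]
      exact IsLocalization.Away.algebraMap_isUnit (algebraMap (𝒟.B i) (𝒟.A (i + 1)) (bb i)))
    have hφ : ∀ x, φ (algebraMap (𝒟.B i) (X i).B x) = algebraMap (𝒟.B i) (X (i + 1)).A x := fun x =>
      IsLocalization.Away.lift_eq (bb i) _ x
    have hcomm : φ.comp (algebraMap R' (X i).B) = algebraMap R' (X (i + 1)).A := by
      refine IsLocalization.ringHom_ext (Submonoid.powers g) (RingHom.ext fun r => ?_)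
      have e1 : algebraMap R' (X i).B (algebraMap R R' r) = algebraMap (𝒟.B i) (X i).B (algebraMap R (𝒟.B i) r) :=
        (RingHom.congr_fun ((X i).rb hi) r).symm
      have e2 : algebraMap R' (X (i + 1)).A (algebraMap R R' r) = (X (i + 1)).ia h (algebraMap R (𝒟.A (i + 1)) r) :=
        (RingHom.congr_fun ((X (i + 1)).ra h) r).symm
      show φ (algebraMap R' (X i).B (algebraMap R R' r)) = algebraMap R' (X (i + 1)).A (algebraMap R R' r)
      rw [e1, hφ, e2, IsScalarTower.algebraMap_apply R (𝒟.B i) (𝒟.A (i + 1))]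
      rfl
    letI : Algebra (X i).B (X (i + 1)).A := φ.toAlgebra
    haveI : IsScalarTower (𝒟.B i) (X i).B (X (i + 1)).A := IsScalarTower.of_algebraMap_eq fun x => (hφ x).symm
    haveI : Algebra.IsPushout (𝒟.B i) (X i).B (𝒟.A (i + 1)) (X (i + 1)).A := by
      haveI : IsLocalization (Algebra.algebraMapSubmonoid (𝒟.A (i + 1)) (Submonoid.powers (bb i))) (X (i + 1)).A := by
        rw [Algebra.algebraMapSubmonoid_powers]; infer_instance
      exact Algebra.IsPushout.symm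
        (Algebra.isPushout_of_isLocalization (Submonoid.powers (bb i)) (X i).B (𝒟.A (i + 1)) (X (i + 1)).A)
    exact ⟨{ φ with commutes' := fun r => RingHom.congr_fun hcomm r },
      CommRingCat.isPushout_iff_isPushout.mpr (Algebra.IsPushout.symm inferInstance)⟩
  choose ψ hψ using key
  let L : Links X := ⟨ψ, hψ⟩
  obtain ⟨T⟩ : Nonempty (Start X S') := by
    letI : Algebra (𝒟.A 0) (X 0).A := ((X 0).ia 𝒟.pos).toAlgebra
    letI : Algebra S (X 0).A := (((X 0).ia 𝒟.pos).comp (algebraMap S (𝒟.A 0))).toAlgebra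
    haveI : IsScalarTower S (𝒟.A 0) (X 0).A := IsScalarTower.of_algebraMap_eq fun _ => rfl
    have e0 : algebraMap S (𝒟.A 0) hX = aa 0 := by
      simp only [hX, bb, aa, map_mul, h0, ← IsScalarTower.algebraMap_apply, mul_assoc]
    haveI hA : IsLocalization.Away (algebraMap S (𝒟.A 0) hX) (X 0).A := by
      rw [e0]; exact (hX' 0 𝒟.pos).2.1.1
    let φ : S' →+* (X 0).A := IsLocalization.Away.lift hX (g := algebraMap S (X 0).A) (by
      rw [IsScalarTower.algebraMap_apply S (𝒟.A 0) (X 0).A]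
      exact IsLocalization.Away.algebraMap_isUnit (algebraMap S (𝒟.A 0) hX))
    have hφ : ∀ x, φ (algebraMap S S' x) = algebraMap S (X 0).A x := fun x =>
      IsLocalization.Away.lift_eq hX _ x
    have hcomm : φ.comp (algebraMap R' S') = algebraMap R' (X 0).A := by
      refine IsLocalization.ringHom_ext (Submonoid.powers g) (RingHom.ext fun r => ?_)
      show φ (algebraMap R' S' (algebraMap R R' r)) = algebraMap R' (X 0).A (algebraMap R R' r)
      have e2 : algebraMap R' (X 0).A (algebraMap R R' r) = (X 0).ia 𝒟.pos (algebraMap R (𝒟.A 0) r) :=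
        (RingHom.congr_fun ((X 0).ra 𝒟.pos) r).symm
      rw [← IsScalarTower.algebraMap_apply R R' S', IsScalarTower.algebraMap_apply R S S', hφ, e2,
        IsScalarTower.algebraMap_apply R S (𝒟.A 0)]
      rfl
    letI : Algebra S' (X 0).A := φ.toAlgebra
    haveI : IsScalarTower S S' (X 0).A := IsScalarTower.of_algebraMap_eq fun x => (hφ x).symm
    haveI : Algebra.IsPushout S S' (𝒟.A 0) (X 0).A := by
      haveI : IsLocalization (Algebra.algebraMapSubmonoid (𝒟.A 0) (Submonoid.powers hX)) (X 0).A := by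
        rw [Algebra.algebraMapSubmonoid_powers]; infer_instance
      exact Algebra.IsPushout.symm (Algebra.isPushout_of_isLocalization (Submonoid.powers hX) S' (𝒟.A 0) (X 0).A)
    exact ⟨⟨{ φ with commutes' := fun r => RingHom.congr_fun hcomm r },
      CommRingCat.isPushout_iff_isPushout.mpr (Algebra.IsPushout.symm inferInstance)⟩⟩
  have hf : IsBaseChange S' (LocalizedModule.mkLinearMap (Submonoid.powers hX) N) :=
    IsLocalizedModule.isBaseChange (Submonoid.powers hX) S' _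
  -- the points
  have pts : ∀ i, ∃ (Q : Ideal (X i).B) (P : Ideal (X i).A) (_ : Q.IsPrime) (_ : P.IsPrime)
      (_ : Q.LiesOver p') (_ : P.LiesOver Q), ∀ h : i < 𝒟.n,
      Q.comap ((X i).ib h) = 𝒜.qB i ∧ P.comap ((X i).ia h) = 𝒜.qA i ∧ FlatCA.PurelyTranscendental p' Q ∧
      (∀ (P₁ : Ideal (X i).A) [P₁.IsPrime], P₁.LiesOver Q → P₁ = P) ∧
      FlatCA.SmoothRelDim (𝒜.d i) R' (X i).B ∧
      ∃ (x : PrimeSpectrum (p'.Fiber (X i).B))
        (hx : x ∈ Module.support (p'.Fiber (X i).B) (FlatCA.fiberMod p' (X i).B (X i).M)),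
        x.asIdeal = FlatCA.fiberIdeal p' Q ∧
        FlatMor.localDim (Module.support (p'.Fiber (X i).B) (FlatCA.fiberMod p' (X i).B (X i).M)) ⟨x, hx⟩ = 𝒜.d i := by
    intro i
    by_cases h : i < 𝒟.n
    · letI : Algebra (𝒟.B i) (X i).B := ((X i).ib h).toAlgebra
      letI : Algebra (𝒟.A i) (X i).A := ((X i).ia h).toAlgebra
      letI : Algebra (𝒟.B i) (X i).A := (((X i).ia h).comp (algebraMap (𝒟.B i) (𝒟.A i))).toAlgebra
      haveI : IsScalarTower (𝒟.B i) (𝒟.A i) (X i).A := IsScalarTower.of_algebraMap_eq fun _ => rfl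
      haveI : IsScalarTower (𝒟.B i) (X i).B (X i).A := IsScalarTower.of_algebraMap_eq fun x => ((X i).commA h x).symm
      letI : Algebra R (X i).B := ((algebraMap R' (X i).B).comp (algebraMap R R')).toAlgebra
      haveI : IsScalarTower R R' (X i).B := IsScalarTower.of_algebraMap_eq fun _ => rfl
      haveI : IsScalarTower R (𝒟.B i) (X i).B :=
        IsScalarTower.of_algebraMap_eq fun r => (RingHom.congr_fun ((X i).rb h) r).symm
      letI : Module (𝒟.A i) (X i).M := Module.compHom (X i).M ((X i).ia h)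
      haveI : IsScalarTower (𝒟.A i) (X i).A (X i).M := IsScalarTower.of_algebraMap_smul fun _ _ => rfl
      haveI : IsLocalization.Away (bb i) (X i).B := (hX' i h).1
      haveI : IsLocalization.Away (algebraMap (𝒟.B i) (𝒟.A i) (bb i)) (X i).A := (hX' i h).2.1.2
      haveI := 𝒟.finiteBA i h
      haveI := 𝒟.finiteM i h
      haveI := 𝒟.smooth i h
      obtain ⟨Q, P, hQ, hP, hQp, hPQ, e1, e2, h1, h2, h3, h4⟩ := loc_index (B := 𝒟.B i) (A := 𝒟.A i) (B' := (X i).B) (A' := (X i).A) (M := 𝒟.M i) (M' := (X i).M) g p p' (bb i)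
        ({ toFun := (X i).g h, map_add' := map_add ((X i).g h), map_smul' := (X i).smul h } :
          𝒟.M i →ₗ[𝒟.A i] (X i).M) ((X i).bc h) (𝒜.qB i) (𝒜.qA i) (hbb i h) hgp
        (𝒜.pureTrans i h) (𝒜.uniq i h) (𝒜.d i) (𝒜.relDim i h) (𝒜.locDim i h)
      exact ⟨Q, P, hQ, hP, hQp, hPQ, fun _ => ⟨e1, e2, h1, h2, h3, h4⟩⟩
    · obtain ⟨Q, P, hQ, hP, hQp, hPQ⟩ := hXt i h
      exact ⟨Q, P, hQ, hP, ⟨hQp.symm⟩, hPQ, fun h' => absurd h' h⟩
  choose qB qA hqB hqA hBp hAB hpts using pts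
  have hq0 : (qA 0).comap T.σ.toRingHom = q.map (algebraMap S S') := by
    haveI := hqA 0
    refine (IsLocalization.orderEmbedding (Submonoid.powers hX) S').injective ?_
    show ((qA 0).comap T.σ.toRingHom).comap (algebraMap S S') = (q.map (algebraMap S S')).comap (algebraMap S S')
    have e := congrArg CommRingCat.Hom.hom T.push.w
    rw [hqc, Ideal.comap_comap,
      show T.σ.toRingHom.comp (algebraMap S S') = ((X 0).ia 𝒟.pos).comp (algebraMap S (𝒟.A 0)) from e.symm,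
      ← Ideal.comap_comap, (hpts 0 𝒟.pos).2.1, 𝒜.q0]
  have hqs : ∀ i, i + 1 < 𝒟.n → (qA (i + 1)).comap (L.map i).toRingHom = qB i := by
    intro i h
    haveI := hqA (i + 1); haveI := hqB i
    have hi : i < 𝒟.n := Nat.lt_of_succ_lt h
    letI : Algebra (𝒟.B i) (X i).B := ((X i).ib hi).toAlgebra
    haveI : IsLocalization.Away (bb i) (X i).B := (hX' i hi).1
    refine (IsLocalization.orderEmbedding (Submonoid.powers (bb i)) (X i).B).injective ?_
    show ((qA (i + 1)).comap (L.map i).toRingHom).comap ((X i).ib hi) = (qB i).comap ((X i).ib hi)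
    rw [Ideal.comap_comap, show (L.map i).toRingHom.comp ((X i).ib hi) =
        ((X (i + 1)).ia h).comp (algebraMap (𝒟.B i) (𝒟.A (i + 1))) from RingHom.ext (L.map_eq i h),
      ← Ideal.comap_comap, (hpts (i + 1) h).2.1, 𝒜.qStep i h, (hpts i hi).1]
  let 𝒟' := build X L T hf
  let 𝒜' : FlatCA.CompleteDevissageAt R' S' N' p' (q.map (algebraMap S S')) 𝒟' :=
    { qB := qB, qA := qA, hqB := hqB, hqA := hqA, overB := hBp, overA := hAB
      pureTrans := fun i hi => (hpts i hi).2.2.1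
      uniq := fun i hi => (hpts i hi).2.2.2.1
      q0 := hq0
      qStep := hqs
      d := 𝒜.d
      relDim := fun i hi => (hpts i hi).2.2.2.2.1
      locDim := fun i hi => (hpts i hi).2.2.2.2.2 }
  let aA : ∀ i : Fin 𝒟.n, Algebra (𝒟.A i) (X i).A := fun i => ((X i).ia i.2).toAlgebra
  let rA : ∀ i : Fin 𝒟.n, Algebra R (X i).A := fun i => ((algebraMap R' (X i).A).comp (algebraMap R R')).toAlgebra
  let aB : ∀ i : Fin 𝒟.n, Algebra (𝒟.B i) (X i).B := fun i => ((X i).ib i.2).toAlgebra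
  let rB : ∀ i : Fin 𝒟.n, Algebra R (X i).B := fun i => ((algebraMap R' (X i).B).comp (algebraMap R R')).toAlgebra
  let bA : ∀ i : Fin 𝒟.n, Algebra (𝒟.B i) (X i).A := fun i =>
    (((X i).ia i.2).comp (algebraMap (𝒟.B i) (𝒟.A i))).toAlgebra
  let bA' : ∀ i : Fin 𝒟.n, Algebra (𝒟.B i) (X (i + 1)).A := fun i =>
    ((L.map i).toRingHom.comp ((X i).ib i.2)).toAlgebra
  let sA : Algebra S (X 0).A := (T.σ.toRingHom.comp (algebraMap S S')).toAlgebra
  let mA : ∀ i : Fin 𝒟.n, Module (𝒟.A i) (X i).M := fun i => Module.compHom (X i).M ((X i).ia i.2)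
  let gM : ∀ i : Fin 𝒟.n, letI := mA i; 𝒟.M i →ₗ[𝒟.A i] (X i).M := fun i =>
    letI := mA i
    { toFun := (X i).g i.2, map_add' := map_add ((X i).g i.2), map_smul' := (X i).smul i.2 }
  have t1 : ∀ i : Fin 𝒟.n, letI := rA i; IsScalarTower R R' (X i).A := fun i => by
    letI := rA i; exact IsScalarTower.of_algebraMap_eq fun _ => rfl
  have t2 : ∀ i : Fin 𝒟.n, letI := rA i; letI := aA i; IsScalarTower R (𝒟.A i) (X i).A := fun i => by
    letI := rA i; letI := aA i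
    exact IsScalarTower.of_algebraMap_eq fun r => (RingHom.congr_fun ((X i).ra i.2) r).symm
  have t3 : ∀ i : Fin 𝒟.n, letI := rB i; IsScalarTower R R' (X i).B := fun i => by
    letI := rB i; exact IsScalarTower.of_algebraMap_eq fun _ => rfl
  have t4 : ∀ i : Fin 𝒟.n, letI := rB i; letI := aB i; IsScalarTower R (𝒟.B i) (X i).B := fun i => by
    letI := rB i; letI := aB i
    exact IsScalarTower.of_algebraMap_eq fun r => (RingHom.congr_fun ((X i).rb i.2) r).symm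
  have t5 : ∀ i : Fin 𝒟.n, letI := aA i; letI := bA i; IsScalarTower (𝒟.B i) (𝒟.A i) (X i).A := fun i => by
    letI := aA i; letI := bA i; exact IsScalarTower.of_algebraMap_eq fun _ => rfl
  have t6 : ∀ i : Fin 𝒟.n, letI := aB i; letI := bA i; IsScalarTower (𝒟.B i) (X i).B (X i).A := fun i => by
    letI := aB i; letI := bA i; exact IsScalarTower.of_algebraMap_eq fun b => ((X i).commA i.2 b).symm
  have t7 : ∀ i : Fin 𝒟.n, letI := aB i; letI := bA' i
      letI : Algebra (X i).B (X (i + 1)).A := (L.map i).toRingHom.toAlgebra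
      IsScalarTower (𝒟.B i) (X i).B (X (i + 1)).A := fun i => by
    letI := aB i; letI := bA' i; letI : Algebra (X i).B (X (i + 1)).A := (L.map i).toRingHom.toAlgebra
    exact IsScalarTower.of_algebraMap_eq fun _ => rfl
  have t8 : letI := sA; letI : Algebra S' (X 0).A := T.σ.toRingHom.toAlgebra; IsScalarTower S S' (X 0).A := by
    letI := sA; letI : Algebra S' (X 0).A := T.σ.toRingHom.toAlgebra
    exact IsScalarTower.of_algebraMap_eq fun _ => rfl
  have t9 : ∀ i : Fin 𝒟.n, letI := aA i; letI := mA i; IsScalarTower (𝒟.A i) (X i).A (X i).M := fun i => by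
    letI := aA i; letI := mA i; exact IsScalarTower.of_algebraMap_smul fun _ _ => rfl
  have hS0 : letI := aA ⟨0, 𝒟.pos⟩; letI := sA; IsScalarTower S (𝒟.A 0) (X 0).A := by
    letI := aA ⟨0, 𝒟.pos⟩; letI := sA
    exact IsScalarTower.of_algebraMap_eq fun b =>
      (RingHom.congr_fun (congrArg CommRingCat.Hom.hom T.push.w) b).symm
  have hstep : ∀ (i : Fin 𝒟.n) (h : (i : ℕ) + 1 < 𝒟.n), letI := aA ⟨i + 1, h⟩; letI := bA' i
      IsScalarTower (𝒟.B i) (𝒟.A (i + 1)) (X (i + 1)).A := fun i h => by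
    letI := aA ⟨i + 1, h⟩; letI := bA' i
    exact IsScalarTower.of_algebraMap_eq fun b => L.map_eq i h b
  have hP : ∀ i : Fin 𝒟.n, letI := aA i; letI := aB i; letI := mA i; haveI := t9 i
      aa i ∉ 𝒜.qA i ∧ bb i ∉ 𝒜.qB i ∧
        IsLocalization.Away (aa i) (X i).A ∧ IsLocalization.Away (bb i) (X i).B ∧
        IsLocalizedModule (Submonoid.powers (aa i)) (gM i) ∧
        (qA i).LiesOver (𝒜.qA i) ∧ (qB i).LiesOver (𝒜.qB i) ∧
        LinearMap.range (X i).α =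
          Submodule.span (X i).B ((gM i) '' (LinearMap.range (𝒟.α i) : Set (𝒟.M i))) := fun i => by
    obtain ⟨hB, ⟨hA, -⟩, hM⟩ := hX' i i.2
    exact ⟨haaq i i.2, hbb i i.2, hA, hB, hM, ⟨((hpts i i.2).2.1).symm⟩, ⟨((hpts i i.2).1).symm⟩,
      (X i).range_α i.2⟩
  exact ⟨aRS, inferInstance, mRN, inferInstance, inferInstance, inferInstance, 𝒟', 𝒜',
    fun i => aa i, fun i => bb i, aA, rA, t1, t2, aB, rB, t3, t4, bA, t5, t6, bA', t7, sA, t8, mA, t9, gM,
    rfl, rfl, rfl, hS0, fun x => build_isoN X L T hf x, hstep, rfl, hP⟩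

end DevissShrinkLib
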