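import Groth.Agent.DevissShrinkLib.Basic
import Groth.Agent.DevissShrinkLib.Push
import Mathlib

/-!
# The pointed data of one index along a localisation
-/

set_option autoImplicit false
set_option linter.all false

universe u

open scoped TensorProduct

namespace DevissShrinkLib

open FlatMor in
/-- The pointed properties at one index of a standard shrinking. -/
theorem loc_index {R R' : Type u} [CommRing R] [CommRing R'] [Algebra R R'] (g : R) [IsLocalization.Away g R']
    (p : Ideal R) [p.IsPrime] (p' : Ideal R') [p'.IsPrime] [p'.LiesOver p]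
    {B A B' A' M M' : Type u} [CommRing B] [CommRing A] [CommRing B'] [CommRing A']
    [Algebra R B] [Algebra R A] [Algebra B A] [IsScalarTower R B A] [Algebra.FiniteType R B]
    [Algebra R' B'] [Algebra R' A'] [Algebra B' A'] [IsScalarTower R' B' A']
    [Algebra B B'] [Algebra R B'] [IsScalarTower R R' B'] [IsScalarTower R B B']
    [Algebra A A'] [Algebra B A'] [IsScalarTower B B' A'] [IsScalarTower B A A']
    (b : B) [IsLocalization.Away b B'] [IsLocalization.Away (algebraMap B A b) A']
    [AddCommGroup M] [Module A M] [Module B M] [IsScalarTower B A M]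
    [AddCommGroup M'] [Module A' M'] [Module B' M'] [IsScalarTower B' A' M'] [Module A M'] [IsScalarTower A A' M']
    [Module.Finite B A] [Module.Finite A M] (f : M →ₗ[A] M') (hf : IsBaseChange A' f)
    (y : Ideal B) (z : Ideal A) [y.IsPrime] [z.IsPrime] [y.LiesOver p] [z.LiesOver y]
    (hb : b ∉ y) (hgp : g ∉ p)
    (hpt : FlatCA.PurelyTranscendental p y) (huniq : ∀ (Q : Ideal A) [Q.IsPrime], Q.LiesOver y → Q = z)
    (d : ℕ) (hsm : FlatCA.SmoothRelDim d R B)
    (hloc : ∃ (x : PrimeSpectrum (p.Fiber B)) (hx : x ∈ Module.support (p.Fiber B) (FlatCA.fiberMod p B M)),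
      x.asIdeal = FlatCA.fiberIdeal p y ∧
      FlatMor.localDim (Module.support (p.Fiber B) (FlatCA.fiberMod p B M)) ⟨x, hx⟩ = d) :
    ∃ (y' : Ideal B') (z' : Ideal A') (_ : y'.IsPrime) (_ : z'.IsPrime) (_ : y'.LiesOver p') (_ : z'.LiesOver y'),
      y'.comap (algebraMap B B') = y ∧ z'.comap (algebraMap A A') = z ∧ FlatCA.PurelyTranscendental p' y' ∧
      (∀ (Q : Ideal A') [Q.IsPrime], Q.LiesOver y' → Q = z') ∧ FlatCA.SmoothRelDim d R' B' ∧
      ∃ (x : PrimeSpectrum (p'.Fiber B')) (hx : x ∈ Module.support (p'.Fiber B') (FlatCA.fiberMod p' B' M')),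
        x.asIdeal = FlatCA.fiberIdeal p' y' ∧
        FlatMor.localDim (Module.support (p'.Fiber B') (FlatCA.fiberMod p' B' M')) ⟨x, hx⟩ = d := by
  have hbz : algebraMap B A b ∉ z := fun hm => hb (by rw [Ideal.over_def z y]; exact hm)
  obtain ⟨hy', hyc⟩ := map_prime_of_away B' b y hb
  obtain ⟨hz', hzc⟩ := map_prime_of_away A' (algebraMap B A b) z hbz
  set y' := y.map (algebraMap B B') with hy'def
  set z' := z.map (algebraMap A A') with hz'def
  haveI := hy'; haveI := hz'
  haveI : y'.LiesOver y := ⟨hyc.symm⟩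
  haveI hy'p : y'.LiesOver p' := ⟨(IsLocalization.orderEmbedding (Submonoid.powers g) R').injective (by
    show p'.comap (algebraMap R R') = (y'.comap (algebraMap R' B')).comap (algebraMap R R')
    rw [Ideal.comap_comap, ← IsScalarTower.algebraMap_eq, IsScalarTower.algebraMap_eq R B B',
      ← Ideal.comap_comap, hyc]
    exact (Ideal.over_def p' p).symm.trans (Ideal.over_def y p))⟩
  have hzy : z'.LiesOver y' := ⟨(IsLocalization.orderEmbedding (Submonoid.powers b) B').injective (by
    show y'.comap (algebraMap B B') = (z'.comap (algebraMap B' A')).comap (algebraMap B B')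
    rw [Ideal.comap_comap, ← IsScalarTower.algebraMap_eq, IsScalarTower.algebraMap_eq B A A',
      ← Ideal.comap_comap, hzc, hyc]
    exact Ideal.over_def z y)⟩
  haveI : Algebra.Etale R R' := Algebra.Etale.of_isLocalizationAway g
  haveI : Algebra.Etale B B' := Algebra.Etale.of_isLocalizationAway b
  have huniq' : ∀ (Q : Ideal A') [Q.IsPrime], Q.LiesOver y' → Q = z' := by
    intro Q _ h₂
    haveI : (Q.comap (algebraMap A A')).LiesOver y := ⟨by
      show y = (Q.comap (algebraMap A A')).comap (algebraMap B A)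
      rw [Ideal.comap_comap, ← IsScalarTower.algebraMap_eq, IsScalarTower.algebraMap_eq B B' A',
        ← Ideal.comap_comap]
      exact hyc.symm.trans (congrArg (Ideal.comap _) h₂.over)⟩
    rw [← IsLocalization.map_under (Submonoid.powers (algebraMap B A b)) A' Q]
    exact congrArg (Ideal.map (algebraMap A A')) (huniq _ inferInstance)
  have hpt' : FlatCA.PurelyTranscendental p' y' :=
    DevissExLib.purelyTranscendental_of_bijective (S := B) p p' y y'
      (bijective_residue_of_away g p p').2 (bijective_residue_of_away b y y').2 hpt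
  haveI : Algebra.IsPushout B B' A A' := by
    haveI : IsLocalization (Algebra.algebraMapSubmonoid A (Submonoid.powers b)) A' := by
      rw [Algebra.algebraMapSubmonoid_powers]; infer_instance
    exact Algebra.IsPushout.symm (Algebra.isPushout_of_isLocalization (Submonoid.powers b) B' A A')
  letI mB : Module B M' := Module.compHom M' (algebraMap B A')
  haveI : IsScalarTower B A M' := IsScalarTower.of_algebraMap_smul fun c m => by
    show algebraMap B A c • m = algebraMap B A' c • m
    rw [← algebraMap_smul A' (algebraMap B A c) m, ← IsScalarTower.algebraMap_apply]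
  haveI : IsScalarTower B B' M' := IsScalarTower.of_algebraMap_smul fun c m => by
    show algebraMap B B' c • m = algebraMap B A' c • m
    rw [← algebraMap_smul A' (algebraMap B B' c) m, ← IsScalarTower.algebraMap_apply]
  haveI : Module.Finite B M := Module.Finite.trans A M
  obtain ⟨gm, hgm⟩ := DevissExLib.exists_map_support_etale p p' M M' (f.restrictScalars B) (isBaseChange_restrict (P := B) (P' := B') f hf)
  obtain ⟨ξ, hξ, hξq, hξn⟩ := hloc
  obtain ⟨x₀, hx₀⟩ := (DevissExLib.mem_range_comap_incl p' (⟨y', inferInstance⟩ : PrimeSpectrum B')).2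
    (Ideal.over_def y' p').symm
  obtain ⟨x₁, hx₁⟩ := (DevissExLib.mem_range_comap_incl p (⟨y, inferInstance⟩ : PrimeSpectrum B)).2
    (Ideal.over_def y p).symm
  have hξx : ξ = x₁ := PrimeSpectrum.ext (by
    rw [hξq, show y = x₁.asIdeal.comap (FibAssLib.incl B p) from (congrArg PrimeSpectrum.asIdeal hx₁).symm]
    exact FlatInjLib.fiberIdeal_comap p x₁.asIdeal)
  have hπ : PrimeSpectrum.comap (algebraMap B B') (PrimeSpectrum.comap (FibAssLib.incl B' p') x₀) =
      PrimeSpectrum.comap (FibAssLib.incl B p) ξ := by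
    rw [hx₀, hξx, hx₁]
    exact PrimeSpectrum.ext hyc
  have hf' := isBaseChange_restrict (P := B) (P' := B') f hf
  haveI : Module.Finite B' M' := Module.Finite.equiv hf'.equiv
  have hx₀s : x₀ ∈ Module.support (p'.Fiber B') (FlatCA.fiberMod p' B' M') := by
    rw [DevissExLib.mem_support_fiberMod, ← hf'.equiv.support_eq]
    refine (DepthLib.mem_support_baseChange (P₀ := B) (P := B') M _).2 ?_
    rw [hπ, ← DevissExLib.mem_support_fiberMod]
    exact hξ
  have hgx : gm ⟨x₀, hx₀s⟩ = ⟨ξ, hξ⟩ :=
    Subtype.ext ((DevissExLib.isEmbedding_comap_incl p).injective ((hgm ⟨x₀, hx₀s⟩).1.trans hπ))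
  refine ⟨y', z', inferInstance, inferInstance, hy'p, hzy, hyc, hzc, hpt', huniq',
    DevissExLib.smoothRelDim_localization hsm g R' B', x₀, hx₀s, ?_, ?_⟩
  · rw [show y' = x₀.asIdeal.comap (FibAssLib.incl B' p') from (congrArg PrimeSpectrum.asIdeal hx₀).symm]
    exact (FlatInjLib.fiberIdeal_comap p' x₀.asIdeal).symm
  · rw [(hgm ⟨x₀, hx₀s⟩).2, hgx, hξn]

end DevissShrinkLib
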