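import Groth.Agent.DevissShrinkLib.TensorPieces
import Groth.Agent.DevissShrinkLib.LocIndex
import Mathlib

/-!
# The pieces of a shrunk complete dévissage
-/

set_option autoImplicit false
set_option linter.all false

universe u

open scoped TensorProduct
open CategoryTheory

namespace DevissShrinkLib

variable {R S : Type u} [CommRing R] [CommRing S] [Algebra R S] {N : Type u} [AddCommGroup N] [Module S N]
  {p : Ideal R} [p.IsPrime] {q : Ideal S} [q.IsPrime] (𝒟 : FlatCA.CompleteDevissage R S N p)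
  (𝒜 : FlatCA.CompleteDevissageAt R S N p q 𝒟)

theorem qB_qA_prime (i : ℕ) : (𝒜.qB i).IsPrime ∧ (𝒜.qA i).IsPrime := ⟨𝒜.hqB i, 𝒜.hqA i⟩

/-- Elements pushed forward from a given element outside the point. -/
theorem exists_forward (u : S) (hu : u ∉ q) :
    ∃ β₀ : ∀ i, 𝒟.B i, (∀ i, β₀ i ∉ 𝒜.qB i) ∧
      algebraMap S (𝒟.A 0) u ∣ algebraMap (𝒟.B 0) (𝒟.A 0) (β₀ 0) ∧
      ∀ i, i + 1 < 𝒟.n → algebraMap (𝒟.B i) (𝒟.A (i + 1)) (β₀ i) ∣
        algebraMap (𝒟.B (i + 1)) (𝒟.A (i + 1)) (β₀ (i + 1)) := by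
  classical
  haveI := 𝒜.hqB
  have step : ∀ i (h : i < 𝒟.n) (c : 𝒟.A i), c ∉ 𝒜.qA i →
      ∃ b : 𝒟.B i, b ∉ 𝒜.qB i ∧ c ∣ algebraMap (𝒟.B i) (𝒟.A i) b := fun i h c hc => by
    haveI := 𝒟.finiteBA i h
    exact exists_dvd_of_unique (𝒜.qA i) (𝒜.qB i) (fun z hz => 𝒜.uniq i h z) c hc
  have one : ∀ i, ∃ b : 𝒟.B i, b ∉ 𝒜.qB i := fun i =>
    ⟨1, fun hm => (𝒜.hqB i).ne_top ((Ideal.eq_top_iff_one _).2 hm)⟩
  have hu0 : algebraMap S (𝒟.A 0) u ∉ 𝒜.qA 0 := fun hm => hu (by rw [← 𝒜.q0]; exact hm)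
  obtain ⟨b₀, hb₀, hb₀d⟩ := step 0 𝒟.pos _ hu0
  have next' : ∀ i (b : {b : 𝒟.B i // b ∉ 𝒜.qB i}), ∃ b' : {b : 𝒟.B (i + 1) // b ∉ 𝒜.qB (i + 1)},
      i + 1 < 𝒟.n → algebraMap (𝒟.B i) (𝒟.A (i + 1)) b.1 ∣ algebraMap (𝒟.B (i + 1)) (𝒟.A (i + 1)) b'.1 := by
    intro i b
    by_cases h : i + 1 < 𝒟.n
    · obtain ⟨b', h1, h2⟩ := step (i + 1) h _ (fun hm => b.2 ((𝒜.qStep i h).le hm))
      exact ⟨⟨b', h1⟩, fun _ => h2⟩
    · obtain ⟨b', h1⟩ := one (i + 1)
      exact ⟨⟨b', h1⟩, fun h' => absurd h' h⟩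
  choose nx hnx using next'
  let β : ∀ i, {b : 𝒟.B i // b ∉ 𝒜.qB i} := fun i => Nat.rec (motive := fun i => {b : 𝒟.B i // b ∉ 𝒜.qB i})
    ⟨b₀, hb₀⟩ nx i
  exact ⟨fun i => (β i).1, fun i => (β i).2, hb₀d, fun i h => hnx i (β i) h⟩

/-- Elements pulled back from a given last element. -/
theorem exists_backward (u : S) (hu : u ∉ q) (β₀ : ∀ i, 𝒟.B i) (h₀ : ∀ i, β₀ i ∉ 𝒜.qB i)
    (hu₀ : algebraMap S (𝒟.A 0) u ∣ algebraMap (𝒟.B 0) (𝒟.A 0) (β₀ 0))
    (hst : ∀ i, i + 1 < 𝒟.n → algebraMap (𝒟.B i) (𝒟.A (i + 1)) (β₀ i) ∣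
        algebraMap (𝒟.B (i + 1)) (𝒟.A (i + 1)) (β₀ (i + 1)))
    (w : 𝒟.B (𝒟.n - 1)) (hw : w ∉ 𝒜.qB (𝒟.n - 1)) (hw₀ : β₀ (𝒟.n - 1) ∣ w) :
    ∃ (β : ∀ i, 𝒟.B i) (f₀ : S) (c : ∀ i, 𝒟.A i), β (𝒟.n - 1) = w ∧ f₀ ∉ q ∧ u ∣ f₀ ∧
      (∀ i, i < 𝒟.n → β i ∉ 𝒜.qB i ∧ c i ∣ algebraMap (𝒟.B i) (𝒟.A i) (β i)) ∧
      algebraMap S (𝒟.A 0) f₀ = c 0 * algebraMap (𝒟.B 0) (𝒟.A 0) (β 0) ∧
      ∀ i, i + 1 < 𝒟.n → algebraMap (𝒟.B i) (𝒟.A (i + 1)) (β i) =
        c (i + 1) * algebraMap (𝒟.B (i + 1)) (𝒟.A (i + 1)) (β (i + 1)) := by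
  classical
  haveI := 𝒜.hqB
  haveI := 𝒜.hqA
  haveI := 𝒜.overA
  have hkey : ∀ k, ∃ β : ∀ i, 𝒟.B i, β (𝒟.n - 1) = w ∧ (∀ i, β i ∉ 𝒜.qB i) ∧
      (∀ i, 𝒟.n ≤ i + 1 + k → i < 𝒟.n → β₀ i ∣ β i) ∧
      ∀ i, 𝒟.n ≤ i + 1 + k → i + 1 < 𝒟.n → algebraMap (𝒟.B i) (𝒟.A (i + 1)) (β i) =
        algebraMap (𝒟.B i) (𝒟.A (i + 1)) (β₀ i) * algebraMap (𝒟.B (i + 1)) (𝒟.A (i + 1)) (β (i + 1)) := by
    intro k
    induction k with
    | zero =>
      refine ⟨Function.update β₀ (𝒟.n - 1) w, Function.update_self _ _ _, fun i => ?_, fun i hi hin => ?_,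
        fun i hi hin => absurd hin (by omega)⟩
      · by_cases h : i = 𝒟.n - 1
        · subst h; rw [Function.update_self]; exact hw
        · rw [Function.update_of_ne h]; exact h₀ i
      · obtain rfl : i = 𝒟.n - 1 := by omega
        rw [Function.update_self]; exact hw₀
    | succ k ih =>
      obtain ⟨β, hβw, hβ, hdvd, heq⟩ := ih
      by_cases hk : k + 2 ≤ 𝒟.n
      · obtain ⟨j, hj⟩ : ∃ j, j + 2 + k = 𝒟.n := ⟨𝒟.n - (k + 2), by omega⟩
        have hjn : j + 1 < 𝒟.n := by omega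
        obtain ⟨t, ht⟩ := 𝒟.surjBA' j hjn (algebraMap (𝒟.B (j + 1)) (𝒟.A (j + 1)) (β (j + 1)))
        have htq : t ∉ 𝒜.qB j := fun hm => hβ (j + 1) (by
          rw [← 𝒜.qStep j hjn, Ideal.mem_comap, ht] at hm
          rw [Ideal.over_def (𝒜.qA (j + 1)) (𝒜.qB (j + 1))]
          exact hm)
        refine ⟨Function.update β j (β₀ j * t), ?_, fun i => ?_, fun i hi hin => ?_, fun i hi hin => ?_⟩
        · rw [Function.update_of_ne (by omega)]; exact hβw
        · by_cases h : i = j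
          · subst h; rw [Function.update_self]
            exact fun hm => ((𝒜.hqB i).mem_or_mem hm).elim (h₀ i) htq
          · rw [Function.update_of_ne h]; exact hβ i
        · by_cases h : i = j
          · subst h; rw [Function.update_self]; exact dvd_mul_right _ _
          · rw [Function.update_of_ne h]; exact hdvd i (by omega) hin
        · by_cases h : i = j
          · subst h
            rw [Function.update_self, Function.update_of_ne (by omega), map_mul, ht]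
          · rw [Function.update_of_ne h, Function.update_of_ne (by omega)]; exact heq i (by omega) hin
      · exact ⟨β, hβw, hβ, fun i _ h => hdvd i (by omega) h, fun i _ h => heq i (by omega) h⟩
  obtain ⟨β, hβw, hβ, hdvd, heq⟩ := hkey 𝒟.n
  obtain ⟨t, ht⟩ := 𝒟.surjSA (algebraMap (𝒟.B 0) (𝒟.A 0) (β 0))
  have htq : t ∉ q := fun hm => hβ 0 (by
    rw [← 𝒜.q0, Ideal.mem_comap, ht] at hm
    rw [Ideal.over_def (𝒜.qA 0) (𝒜.qB 0)]
    exact hm)
  let c : ∀ i, 𝒟.A i := fun i => match i with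
    | 0 => algebraMap S (𝒟.A 0) u
    | j + 1 => algebraMap (𝒟.B j) (𝒟.A (j + 1)) (β₀ j)
  refine ⟨β, u * t, c, hβw, fun hm => ((inferInstance : q.IsPrime).mem_or_mem hm).elim hu htq, dvd_mul_right _ _,
    fun i hi => ⟨hβ i, ?_⟩, by rw [map_mul, ht], fun i hi => heq i (by omega) hi⟩
  match i with
  | 0 => exact hu₀.trans (map_dvd _ (hdvd 0 (by omega) hi))
  | j + 1 => exact (hst j hi).trans (map_dvd _ (hdvd (j + 1) (by omega) hi))

variable (g : R) (R' : Type u) [CommRing R'] [Algebra R R'] [IsLocalization.Away g R'] (p' : Ideal R') [p'.IsPrime]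
  [p'.LiesOver p]

/-- The localisation elements on the rings carrying the modules and on the smooth algebras. -/
def IsLoc {K : Type u} [CommRing K] [Algebra R' K] {i : ℕ} (X : Piece 𝒟 R' p' K i) (a : 𝒟.A i) (b : 𝒟.B i)
    (h : i < 𝒟.n) : Prop :=
  (letI := (X.ib h).toAlgebra; IsLocalization.Away b X.B) ∧
  (letI := (X.ia h).toAlgebra; IsLocalization.Away a X.A ∧ IsLocalization.Away (algebraMap (𝒟.B i) (𝒟.A i) b) X.A) ∧
  (letI := Module.compHom X.M (X.ia h); IsLocalizedModule (Submonoid.powers a)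
    ({ toFun := X.g h, map_add' := map_add (X.g h), map_smul' := X.smul h } : 𝒟.M i →ₗ[𝒟.A i] X.M))

theorem isLocalizedModule_congr {A A' M M' : Type u} [CommRing A] [CommRing A'] [Algebra A A'] [AddCommGroup M]
    [Module A M] [AddCommGroup M'] [Module A' M'] [mA : Module A M'] [tA : IsScalarTower A A' M'] (T : Submonoid A)
    (g : M →ₗ[A] M') (hg : IsLocalizedModule T g) (mA' : Module A M')
    (hm : ∀ (a : A) (m : M'), (letI := mA'; a • m) = algebraMap A A' a • m) (g' : letI := mA'; M →ₗ[A] M')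
    (hgg : ∀ m, g' m = g m) : letI := mA'; IsLocalizedModule T g' := by
  have e2 : mA' = mA := Module.ext' _ _ fun a m => (hm a m).trans (by
    letI := mA; haveI := tA; exact algebraMap_smul A' a m)
  subst e2
  have e3 : g' = g := LinearMap.ext hgg
  subst e3
  exact hg

include 𝒜 in
theorem exists_good_loc (hgp : g ∉ p) (i : ℕ) (hi : i < 𝒟.n) (β : 𝒟.B i) (c : 𝒟.A i) (b : 𝒟.B i) (a : 𝒟.A i)
    (hbdef : b = β * algebraMap R (𝒟.B i) g) (hadef : a = c * algebraMap (𝒟.B i) (𝒟.A i) b)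
    (hby : b ∉ 𝒜.qB i) (hcdvd : c ∣ algebraMap (𝒟.B i) (𝒟.A i) β)
    (hcov : ∀ t : PrimeSpectrum R, g ∉ t.asIdeal →
      ∃ x : PrimeSpectrum (𝒟.B i), x.asIdeal.comap (algebraMap R (𝒟.B i)) = t.asIdeal ∧ β ∉ x.asIdeal)
    (A B M : Type u) [CommRing A] [CommRing B] [Algebra (𝒟.A i) A] [Algebra (𝒟.B i) B] [Algebra R B] [Algebra R A]
    [IsScalarTower R (𝒟.B i) B] [IsScalarTower R (𝒟.A i) A] [Algebra (𝒟.B i) A] [IsScalarTower (𝒟.B i) (𝒟.A i) A]
    [IsScalarTower R (𝒟.B i) A]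
    [IsLocalization.Away b B] [IsLocalization.Away a A]
    [AddCommGroup M] [Module A M] [Module (𝒟.A i) M] [IsScalarTower (𝒟.A i) A M]
    (gl : 𝒟.M i →ₗ[𝒟.A i] M) [IsLocalizedModule (Submonoid.powers a) gl] :
    ∃ X : Piece 𝒟 R' p' (AlgebraicClosure p'.ResidueField) i, (∀ h, IsLoc 𝒟 R' p' X a b h) ∧
      (¬ i < 𝒟.n → ∃ (Q : Ideal X.B) (P : Ideal X.A), Q.IsPrime ∧ P.IsPrime ∧
        Q.comap (algebraMap R' X.B) = p' ∧ P.LiesOver Q) := by
  haveI := 𝒜.hqB
  haveI := 𝒜.overB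
  subst hbdef
  subst hadef
  set b := β * algebraMap R (𝒟.B i) g with hbdef
  set a := c * algebraMap (𝒟.B i) (𝒟.A i) b with hadef
  haveI hA2 : IsLocalization.Away (algebraMap (𝒟.B i) (𝒟.A i) b) A :=
    DevissExLib.away_of_dvd _ c (hcdvd.trans (map_dvd _ (dvd_mul_right β _)))
  letI aB : Algebra R' B := (IsLocalization.Away.lift g (g := algebraMap R B) (by
    rw [IsScalarTower.algebraMap_apply R (𝒟.B i) B]
    exact isUnit_of_dvd_unit (map_dvd _ (dvd_mul_left _ β)) (IsLocalization.Away.algebraMap_isUnit b))).toAlgebra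
  haveI : IsScalarTower R R' B := IsScalarTower.of_algebraMap_eq fun x =>
    (IsLocalization.Away.lift_eq g _ x).symm
  letI aBA : Algebra B A := (IsLocalization.Away.lift b (g := algebraMap (𝒟.B i) A) (by
    rw [IsScalarTower.algebraMap_apply (𝒟.B i) (𝒟.A i) A]
    exact IsLocalization.Away.algebraMap_isUnit (algebraMap (𝒟.B i) (𝒟.A i) b))).toAlgebra
  haveI : IsScalarTower (𝒟.B i) B A := IsScalarTower.of_algebraMap_eq fun x =>
    (IsLocalization.Away.lift_eq b _ x).symm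
  letI aA : Algebra R' A := ((algebraMap B A).comp (algebraMap R' B)).toAlgebra
  haveI : IsScalarTower R' B A := IsScalarTower.of_algebraMap_eq fun _ => rfl
  haveI : IsScalarTower R R' A := IsScalarTower.of_algebraMap_eq fun x => by
    show _ = algebraMap B A (algebraMap R' B (algebraMap R R' x))
    rw [← IsScalarTower.algebraMap_apply R R' B, IsScalarTower.algebraMap_apply R (𝒟.B i) B,
      ← IsScalarTower.algebraMap_apply (𝒟.B i) B A, ← IsScalarTower.algebraMap_apply R (𝒟.B i) A]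
  haveI hAB : Algebra.IsPushout (𝒟.B i) B (𝒟.A i) A := by
    haveI : IsLocalization (Algebra.algebraMapSubmonoid (𝒟.A i) (Submonoid.powers b)) A := by
      rw [Algebra.algebraMapSubmonoid_powers]; infer_instance
    exact Algebra.IsPushout.symm (Algebra.isPushout_of_isLocalization (Submonoid.powers b) B (𝒟.A i) A)
  haveI : Algebra.Etale (𝒟.B i) B := Algebra.Etale.of_isLocalizationAway b
  have hsm : FlatCA.SmoothRelDim (𝒜.d i) R' B :=
    DevissExLib.smoothRelDim_localization (𝒜.relDim i hi) g R' B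
  haveI : Algebra.Smooth R' B := DevissExLib.smooth_of_smoothRelDim hsm
  have hgi : FlatCA.GeomIrredFibres R' B :=
    DevissExLib.geomIrred_localization g β (𝒟.geomIrred i hi) hcov R' B
  haveI hp : (p'.map (algebraMap R' B)).IsPrime := DevissExLib.map_isPrime_of_geomIrred hgi p'
  obtain ⟨pt⟩ := exists_point p' (p'.map (algebraMap R' B)) (DevissFreeLib.comap_map_eq hgi p')
  have hgl : IsBaseChange A gl := IsLocalizedModule.isBaseChange (Submonoid.powers a) A gl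
  have hcontr : (p'.map (algebraMap R' B)).comap (algebraMap (𝒟.B i) B) = p.map (algebraMap R (𝒟.B i)) := by
    have hbP : b ∉ p.map (algebraMap R (𝒟.B i)) := fun hm => hby
      (Ideal.map_le_iff_le_comap.2 (Ideal.over_def (𝒜.qB i) p).le hm)
    obtain ⟨hP1, hP2⟩ := map_prime_of_away B b (p.map (algebraMap R (𝒟.B i))) hbP
    have e : p' = p.map (algebraMap R R') :=
      ((IsLocalization.map_under (Submonoid.powers g) R' p').symm.trans
        (congrArg (Ideal.map (algebraMap R R')) (Ideal.over_def p' p).symm))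
    rw [e, Ideal.map_map, ← IsScalarTower.algebraMap_eq, IsScalarTower.algebraMap_eq R (𝒟.B i) B,
      ← Ideal.map_map, hP2]
  refine ⟨{ A := A, B := B, M := M, hp := hp, pt := pt, tl := fun h => absurd hi h,
            ia := fun _ => algebraMap (𝒟.A i) A, ib := fun _ => algebraMap (𝒟.B i) B,
            g := fun _ => gl.toAddMonoidHom,
            ra := fun _ => ?_, rb := fun _ => ?_, push := fun _ => ?_, smul := fun _ x m => ?_, bc := fun _ => ?_,
            smooth := fun _ => inferInstance, geomIrred := fun _ => hgi,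
            contr := fun _ => hcontr }, fun h => ⟨?_, ⟨?_, ?_⟩, ?_⟩, fun h => absurd hi h⟩
  · rw [← IsScalarTower.algebraMap_eq, ← IsScalarTower.algebraMap_eq]
  · rw [← IsScalarTower.algebraMap_eq, ← IsScalarTower.algebraMap_eq]
  · exact CommRingCat.isPushout_iff_isPushout.mpr hAB.symm
  · show gl (x • m) = algebraMap (𝒟.A i) A x • gl m
    rw [map_smul, algebraMap_smul]
  · exact isBaseChange_congr gl hgl (algebraMap (𝒟.A i) A).toAlgebra (fun _ => rfl) (Module.compHom M (algebraMap (𝒟.A i) A)) _ _ (fun _ => rfl)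
  · show @IsLocalization.Away _ _ b B _ (algebraMap (𝒟.B i) B).toAlgebra
    rw [show (algebraMap (𝒟.B i) B).toAlgebra = (inferInstance : Algebra (𝒟.B i) B) from
      Algebra.algebra_ext _ _ fun _ => rfl]
    infer_instance
  · show @IsLocalization.Away _ _ a A _ (algebraMap (𝒟.A i) A).toAlgebra
    rw [show (algebraMap (𝒟.A i) A).toAlgebra = (inferInstance : Algebra (𝒟.A i) A) from
      Algebra.algebra_ext _ _ fun _ => rfl]
    infer_instance
  · show @IsLocalization.Away _ _ (algebraMap (𝒟.B i) (𝒟.A i) b) A _ (algebraMap (𝒟.A i) A).toAlgebra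
    rw [show (algebraMap (𝒟.A i) A).toAlgebra = (inferInstance : Algebra (𝒟.A i) A) from
      Algebra.algebra_ext _ _ fun _ => rfl]
    exact hA2
  · exact isLocalizedModule_congr (A' := A) _ gl inferInstance _ (fun _ _ => rfl) _ (fun _ => rfl)

include 𝒜 in
theorem exists_loc_piece (hgp : g ∉ p) (i : ℕ) (β : 𝒟.B i) (c : 𝒟.A i)
    (hβ : i < 𝒟.n → β ∉ 𝒜.qB i ∧ c ∣ algebraMap (𝒟.B i) (𝒟.A i) β)
    (hcov : i < 𝒟.n → ∀ t : PrimeSpectrum R, g ∉ t.asIdeal →
      ∃ x : PrimeSpectrum (𝒟.B i), x.asIdeal.comap (algebraMap R (𝒟.B i)) = t.asIdeal ∧ β ∉ x.asIdeal) :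
    ∃ X : Piece 𝒟 R' p' (AlgebraicClosure p'.ResidueField) i,
      (∀ h, IsLoc 𝒟 R' p' X (c * algebraMap (𝒟.B i) (𝒟.A i) (β * algebraMap R (𝒟.B i) g))
        (β * algebraMap R (𝒟.B i) g) h) ∧
      (¬ i < 𝒟.n → ∃ (Q : Ideal X.B) (P : Ideal X.A), Q.IsPrime ∧ P.IsPrime ∧
        Q.comap (algebraMap R' X.B) = p' ∧ P.LiesOver Q) := by
  haveI := 𝒜.hqB
  haveI := 𝒜.hqA
  haveI := 𝒜.overB
  by_cases hi : i < 𝒟.n
  · obtain ⟨hβq, hcdvd⟩ := hβ hi
    set b := β * algebraMap R (𝒟.B i) g with hbdef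
    have hby : b ∉ 𝒜.qB i := fun hm => ((𝒜.hqB i).mem_or_mem hm).elim hβq fun h1 =>
      hgp (show g ∈ p by rw [Ideal.over_def (𝒜.qB i) p]; exact h1)
    set a := c * algebraMap (𝒟.B i) (𝒟.A i) b with hadef
    exact exists_good_loc 𝒟 𝒜 g R' p' hgp i hi β c b a hbdef hadef hby hcdvd (hcov hi)
      (Localization.Away a) (Localization.Away b) (LocalizedModule (Submonoid.powers a) (𝒟.M i))
      (LocalizedModule.mkLinearMap (Submonoid.powers a) (𝒟.M i))
  · let K := AlgebraicClosure p'.ResidueField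
    have hmap : p'.map (algebraMap R' K) = ⊥ := (Ideal.map_eq_bot_iff_le_ker _).2 fun r hr => by
      rw [RingHom.mem_ker, IsScalarTower.algebraMap_apply R' p'.ResidueField K,
        Ideal.algebraMap_residueField_eq_zero.2 hr, map_zero]
    have hp : (p'.map (algebraMap R' K)).IsPrime := by rw [hmap]; exact Ideal.isPrime_bot
    refine ⟨{ A := K, B := K, M := PUnit.{u + 1}, hp := hp, pt := AlgHom.id R' K, tl := fun _ => AlgHom.id R' K,
              ia := fun h => absurd h hi, ib := fun h => absurd h hi, g := fun h => absurd h hi,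
              ra := fun h => absurd h hi, rb := fun h => absurd h hi, push := fun h => absurd h hi,
              smul := fun h => absurd h hi, bc := fun h => absurd h hi, smooth := fun h => absurd h hi,
              geomIrred := fun h => absurd h hi, contr := fun h => absurd h hi }, fun h => absurd h hi,
      fun _ => ⟨⊥, ⊥, Ideal.isPrime_bot, Ideal.isPrime_bot, ?_, ⟨?_⟩⟩⟩
    · ext r
      show algebraMap R' K r ∈ (⊥ : Ideal K) ↔ r ∈ p'
      rw [Ideal.mem_bot, IsScalarTower.algebraMap_apply R' p'.ResidueField K, map_eq_zero,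
        Ideal.algebraMap_residueField_eq_zero]
    · exact (Ideal.comap_id _).symm

end DevissShrinkLib
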