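import Groth.Agent.DevissShrinkLib.Build
import Groth.Agent.DevissShrinkLib.BaseChange
import Groth.Agent.DevissFreeLib.Base
import Mathlib

/-!
# The pieces of a base changed complete dévissage
-/

set_option autoImplicit false
set_option linter.all false

universe u

open scoped TensorProduct
open CategoryTheory

namespace DevissShrinkLib

attribute [local instance] Algebra.TensorProduct.rightAlgebra

/-- A base change stays one when the structures are recomputed from the ring map. -/
theorem isBaseChange_congr {A A' M M' : Type u} [CommRing A] [CommRing A'] [aA : Algebra A A'] [AddCommGroup M]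
    [Module A M] [AddCommGroup M'] [Module A' M'] [mA : Module A M'] [IsScalarTower A A' M'] (g : M →ₗ[A] M')
    (hg : IsBaseChange A' g) (aA' : Algebra A A') (hA : ∀ a, @algebraMap A A' _ _ aA' a = @algebraMap A A' _ _ aA a)
    (mA' : Module A M') (t' : letI := aA'; letI := mA'; IsScalarTower A A' M') (g' : letI := mA'; M →ₗ[A] M')
    (hgg : ∀ m, g' m = g m) : letI := aA'; letI := mA'; haveI := t'; IsBaseChange A' g' := by
  have e1 : aA' = aA := Algebra.algebra_ext _ _ hA
  subst e1
  have e2 : mA' = mA := Module.ext' _ _ fun a m => by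
    have h : ∀ (m1 : Module A M') (t : letI := m1; IsScalarTower A A' M'),
        (letI := m1; a • m) = algebraMap A A' a • m := fun m1 t => by
      letI := m1; haveI := t; exact (algebraMap_smul A' a m).symm
    exact (h mA' t').trans (h mA inferInstance).symm
  subst e2
  have e3 : g' = g := LinearMap.ext hgg
  subst e3
  exact hg

/-- A point of the fibre with values in an algebraically closed field. -/
theorem exists_point {R' B : Type u} [CommRing R'] [CommRing B] [Algebra R' B] [Algebra.FiniteType R' B]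
    (p' : Ideal R') [p'.IsPrime] (P' : Ideal B) [P'.IsPrime] (h : P'.comap (algebraMap R' B) = p') :
    Nonempty (B →ₐ[R'] AlgebraicClosure p'.ResidueField) := by
  obtain ⟨x, -⟩ := (DevissExLib.mem_range_comap_incl p' (⟨P', inferInstance⟩ : PrimeSpectrum B)).2 h
  haveI : Nontrivial (p'.Fiber B) := nontrivial_of_ne 0 1 fun h01 => x.2.ne_top
    ((Ideal.eq_top_iff_one _).2 (h01 ▸ x.asIdeal.zero_mem))
  obtain ⟨m, hm⟩ := Ideal.exists_maximal (p'.Fiber B)
  letI : Field (p'.Fiber B ⧸ m) := Ideal.Quotient.field m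
  haveI : Module.Finite p'.ResidueField (p'.Fiber B ⧸ m) := finite_of_finite_type_of_isJacobsonRing _ _
  let e : (p'.Fiber B ⧸ m) →ₐ[p'.ResidueField] AlgebraicClosure p'.ResidueField := IsAlgClosed.lift
  exact ⟨((e.comp (Ideal.Quotient.mkₐ p'.ResidueField m)).restrictScalars R').comp
    (Algebra.TensorProduct.includeRight : B →ₐ[R'] p'.Fiber B)⟩

/-- The generic point of a fibre contracts to the generic point of the fibre. -/
theorem contr_tensor {R B : Type u} [CommRing R] [CommRing B] [Algebra R B] [Algebra.Smooth R B]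
    (hgi : FlatCA.GeomIrredFibres R B) {R' : Type u} [CommRing R'] [Algebra R R']
    (p : Ideal R) [p.IsPrime] (p' : Ideal R') [p'.IsPrime] [hp : p'.LiesOver p] :
    (p'.map (algebraMap R' (R' ⊗[R] B))).comap
      (Algebra.TensorProduct.includeRight : B →ₐ[R] R' ⊗[R] B).toRingHom = p.map (algebraMap R B) := by
  refine le_antisymm ?_ (Ideal.map_le_iff_le_comap.2 fun a ha => ?_)
  · haveI := DevissExLib.map_isPrime_of_geomIrred hgi p
    intro b hb
    let j : p.ResidueField →ₐ[R] p'.ResidueField := Ideal.ResidueField.mapₐ p p' (Algebra.ofId R R') hp.over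
    let θ : R' ⊗[R] B →ₐ[R'] p'.ResidueField ⊗[R] B :=
      Algebra.TensorProduct.map (Algebra.ofId R' p'.ResidueField) (AlgHom.id R B)
    have h0 : θ ((1 : R') ⊗ₜ[R] b) = 0 := by
      have hle : p'.map (algebraMap R' (R' ⊗[R] B)) ≤ RingHom.ker θ.toRingHom := by
        refine Ideal.map_le_iff_le_comap.2 fun r hr => ?_
        show θ (algebraMap R' _ r) = 0
        rw [θ.commutes, IsScalarTower.algebraMap_apply R' p'.ResidueField (p'.ResidueField ⊗[R] B),
          Ideal.algebraMap_residueField_eq_zero.2 hr, map_zero]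
      exact hle hb
    have h1 : (1 : p.ResidueField) ⊗ₜ[R] b = 0 := by
      refine Module.Flat.rTensor_preserves_injective_linearMap (M := B) j.toLinearMap j.toRingHom.injective ?_
      rw [map_zero, LinearMap.rTensor_tmul]
      show j 1 ⊗ₜ[R] b = 0
      rw [map_one]
      simpa [θ] using h0
    obtain ⟨x, hx⟩ := (DevissExLib.mem_range_comap_incl p (⟨p.map (algebraMap R B), inferInstance⟩ : PrimeSpectrum B)).2
      (DevissFreeLib.comap_map_eq hgi p)
    rw [show p.map (algebraMap R B) = x.asIdeal.comap (FibAssLib.incl B p) from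
      (congrArg PrimeSpectrum.asIdeal hx).symm, Ideal.mem_comap,
      show FibAssLib.incl B p b = (1 : p.ResidueField) ⊗ₜ[R] b from rfl, h1]
    exact zero_mem _
  · show (1 : R') ⊗ₜ[R] algebraMap R B a ∈ p'.map (algebraMap R' (R' ⊗[R] B))
    rw [← Algebra.TensorProduct.tmul_one_eq_one_tmul]
    exact Ideal.mem_map_of_mem _ ((Ideal.over_def p' p).le ha)

variable {R S : Type u} [CommRing R] [CommRing S] [Algebra R S] {N : Type u} [AddCommGroup N] [Module S N]
  {p : Ideal R} [p.IsPrime] (𝒟 : FlatCA.CompleteDevissage R S N p)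
  (R' : Type u) [CommRing R'] [Algebra R R'] (p' : Ideal R') [p'.IsPrime] [p'.LiesOver p]

/-- A piece is a base change. -/
def IsTensor {K : Type u} [CommRing K] [Algebra R' K] {i : ℕ} (X : Piece 𝒟 R' p' K i) (h : i < 𝒟.n) : Prop :=
  IsPushout (CommRingCat.ofHom (algebraMap R (𝒟.B i))) (CommRingCat.ofHom (algebraMap R R'))
    (CommRingCat.ofHom (X.ib h)) (CommRingCat.ofHom (algebraMap R' X.B)) ∧
  IsPushout (CommRingCat.ofHom (algebraMap R (𝒟.A i))) (CommRingCat.ofHom (algebraMap R R'))
    (CommRingCat.ofHom (X.ia h)) (CommRingCat.ofHom (algebraMap R' X.A))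

theorem exists_tensor_piece (i : ℕ) :
    ∃ X : Piece 𝒟 R' p' (AlgebraicClosure p'.ResidueField) i, ∀ h, IsTensor 𝒟 R' p' X h := by
  by_cases hi : i < 𝒟.n
  · haveI := 𝒟.smooth i hi
    let A := R' ⊗[R] 𝒟.A i
    let B := R' ⊗[R] 𝒟.B i
    let φ : B →ₐ[R'] A := Algebra.TensorProduct.map (AlgHom.id R' R') (IsScalarTower.toAlgHom R (𝒟.B i) (𝒟.A i))
    letI aBA : Algebra B A := φ.toRingHom.toAlgebra
    haveI : IsScalarTower R' B A := IsScalarTower.of_algebraMap_eq fun a => (φ.commutes a).symm
    haveI : IsScalarTower R B A := IsScalarTower.of_algebraMap_eq fun a => by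
      rw [IsScalarTower.algebraMap_apply R R' A, IsScalarTower.algebraMap_apply R' B A,
        ← IsScalarTower.algebraMap_apply R R' B]
    letI aBiA : Algebra (𝒟.B i) A := ((algebraMap (𝒟.A i) A).comp (algebraMap (𝒟.B i) (𝒟.A i))).toAlgebra
    haveI : IsScalarTower (𝒟.B i) (𝒟.A i) A := IsScalarTower.of_algebraMap_eq fun _ => rfl
    haveI : IsScalarTower (𝒟.B i) B A := IsScalarTower.of_algebraMap_eq fun b => by
      show _ = φ ((1 : R') ⊗ₜ[R] b)
      rw [Algebra.TensorProduct.map_tmul]
      rfl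
    haveI : IsScalarTower R (𝒟.B i) A := IsScalarTower.of_algebraMap_eq fun a => by
      show _ = algebraMap (𝒟.A i) A (algebraMap (𝒟.B i) (𝒟.A i) (algebraMap R (𝒟.B i) a))
      rw [← IsScalarTower.algebraMap_apply R (𝒟.B i) (𝒟.A i), ← IsScalarTower.algebraMap_apply R (𝒟.A i) A]
    haveI hA : Algebra.IsPushout R R' (𝒟.A i) A := inferInstance
    haveI hB : Algebra.IsPushout R R' (𝒟.B i) B := inferInstance
    haveI hAB : Algebra.IsPushout (𝒟.B i) (𝒟.A i) B A := by
      haveI : Algebra.IsPushout R (𝒟.B i) R' B := hB.symm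
      exact (Algebra.IsPushout.comp_iff (R := R) (S := 𝒟.B i) (R' := R') (S' := B) (T := 𝒟.A i) (T' := A)).1 hA.symm
    haveI : Algebra.Smooth R' B := inferInstance
    have hgi : FlatCA.GeomIrredFibres R' B := DevissFreeLib.geomIrred_baseChange R' (𝒟.geomIrred i hi)
    haveI hp : (p'.map (algebraMap R' B)).IsPrime := DevissExLib.map_isPrime_of_geomIrred hgi p'
    obtain ⟨pt⟩ := exists_point p' (p'.map (algebraMap R' B)) (DevissFreeLib.comap_map_eq hgi p')
    haveI : IsScalarTower (𝒟.A i) A (A ⊗[𝒟.A i] 𝒟.M i) := TensorProduct.isScalarTower_left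
    let g : 𝒟.M i →ₗ[𝒟.A i] A ⊗[𝒟.A i] 𝒟.M i := TensorProduct.mk (𝒟.A i) A (𝒟.M i) 1
    refine ⟨{ A := A, B := B, M := A ⊗[𝒟.A i] 𝒟.M i, hp := hp, pt := pt, tl := fun h => absurd hi h,
              ia := fun _ => algebraMap (𝒟.A i) A, ib := fun _ => algebraMap (𝒟.B i) B,
              g := fun _ => g.toAddMonoidHom,
              ra := fun _ => ?_, rb := fun _ => ?_, push := fun _ => ?_, smul := fun _ a m => ?_, bc := fun _ => ?_,
              smooth := fun _ => inferInstance, geomIrred := fun _ => hgi,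
              contr := fun _ => contr_tensor (𝒟.geomIrred i hi) p p' }, fun h => ⟨?_, ?_⟩⟩
    · rw [← IsScalarTower.algebraMap_eq, ← IsScalarTower.algebraMap_eq]
    · rw [← IsScalarTower.algebraMap_eq, ← IsScalarTower.algebraMap_eq]
    · exact CommRingCat.isPushout_iff_isPushout.mpr hAB
    · show g (a • m) = algebraMap (𝒟.A i) A a • g m
      rw [map_smul, algebraMap_smul]
    · exact isBaseChange_congr g (TensorProduct.isBaseChange (𝒟.A i) (𝒟.M i) A) _ (fun _ => rfl) _ _ _ (fun _ => rfl)
    · exact CommRingCat.isPushout_iff_isPushout.mpr hB.symm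
    · exact CommRingCat.isPushout_iff_isPushout.mpr hA.symm
  · let K := AlgebraicClosure p'.ResidueField
    have hp : (p'.map (algebraMap R' K)).IsPrime := by
      rw [show p'.map (algebraMap R' K) = ⊥ from (Ideal.map_eq_bot_iff_le_ker _).2 fun r hr => by
        rw [RingHom.mem_ker, IsScalarTower.algebraMap_apply R' p'.ResidueField K,
          Ideal.algebraMap_residueField_eq_zero.2 hr, map_zero]]
      exact Ideal.isPrime_bot
    exact ⟨{ A := K, B := K, M := PUnit.{u + 1}, hp := hp, pt := AlgHom.id R' K, tl := fun _ => AlgHom.id R' K,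
             ia := fun h => absurd h hi, ib := fun h => absurd h hi, g := fun h => absurd h hi,
             ra := fun h => absurd h hi, rb := fun h => absurd h hi, push := fun h => absurd h hi,
             smul := fun h => absurd h hi, bc := fun h => absurd h hi, smooth := fun h => absurd h hi,
             geomIrred := fun h => absurd h hi, contr := fun h => absurd h hi }, fun h => absurd h hi⟩

variable {𝒟 R' p'} {X : ∀ i, Piece 𝒟 R' p' (AlgebraicClosure p'.ResidueField) i}

theorem nonempty_tensor_links (hX : ∀ i h, IsTensor 𝒟 R' p' (X i) h) : Nonempty (Links X) := by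
  have key : ∀ i (h : i + 1 < 𝒟.n), ∃ ψ : (X i).B →ₐ[R'] (X (i + 1)).A,
      IsPushout (CommRingCat.ofHom (algebraMap (𝒟.B i) (𝒟.A (i + 1))))
        (CommRingCat.ofHom ((X i).ib (Nat.lt_of_succ_lt h))) (CommRingCat.ofHom ((X (i + 1)).ia h))
        (CommRingCat.ofHom ψ.toRingHom) := by
    intro i h
    obtain ⟨hB, -⟩ := hX i (Nat.lt_of_succ_lt h)
    obtain ⟨-, hA⟩ := hX (i + 1) h
    have e : CommRingCat.ofHom (algebraMap R (𝒟.B i)) ≫ CommRingCat.ofHom (algebraMap (𝒟.B i) (𝒟.A (i + 1))) =
        CommRingCat.ofHom (algebraMap R (𝒟.A (i + 1))) := by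
      rw [← CommRingCat.ofHom_comp, ← IsScalarTower.algebraMap_eq]
    let d := hB.desc (CommRingCat.ofHom (algebraMap (𝒟.B i) (𝒟.A (i + 1))) ≫ CommRingCat.ofHom ((X (i + 1)).ia h))
      (CommRingCat.ofHom (algebraMap R' (X (i + 1)).A)) (by rw [← Category.assoc, e]; exact hA.w)
    refine ⟨{ d.hom with commutes' := fun r => ?_ }, ?_⟩
    · exact RingHom.congr_fun (congrArg CommRingCat.Hom.hom (hB.inr_desc _ _ _)) r
    · refine IsPushout.of_left (?_ : IsPushout _ _ _ (CommRingCat.ofHom (algebraMap R' (X i).B) ≫ d))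
        (hB.inl_desc _ _ _).symm hB
      rw [e, hB.inr_desc]
      exact hA
  choose ψ hψ using key
  exact ⟨⟨ψ, hψ⟩⟩

theorem nonempty_tensor_start (hX : ∀ i h, IsTensor 𝒟 R' p' (X i) h) (S' : Type u) [CommRing S'] [Algebra R' S']
    [Algebra R S'] [Algebra S S'] [IsScalarTower R R' S'] [IsScalarTower R S S'] [Algebra.IsPushout R R' S S'] :
    Nonempty (Start X S') := by
  have hS : IsPushout (CommRingCat.ofHom (algebraMap R S)) (CommRingCat.ofHom (algebraMap R R'))
      (CommRingCat.ofHom (algebraMap S S')) (CommRingCat.ofHom (algebraMap R' S')) :=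
    CommRingCat.isPushout_iff_isPushout.mpr (Algebra.IsPushout.symm inferInstance)
  obtain ⟨-, hA⟩ := hX 0 𝒟.pos
  have e : CommRingCat.ofHom (algebraMap R S) ≫ CommRingCat.ofHom (algebraMap S (𝒟.A 0)) =
      CommRingCat.ofHom (algebraMap R (𝒟.A 0)) := by
    rw [← CommRingCat.ofHom_comp, ← IsScalarTower.algebraMap_eq]
  let d := hS.desc (CommRingCat.ofHom (algebraMap S (𝒟.A 0)) ≫ CommRingCat.ofHom ((X 0).ia 𝒟.pos))
    (CommRingCat.ofHom (algebraMap R' (X 0).A)) (by rw [← Category.assoc, e]; exact hA.w)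
  refine ⟨⟨{ d.hom with commutes' := fun r => RingHom.congr_fun (congrArg CommRingCat.Hom.hom (hS.inr_desc _ _ _)) r }, ?_⟩⟩
  refine IsPushout.of_left (?_ : IsPushout _ _ _ (CommRingCat.ofHom (algebraMap R' S') ≫ d)) (hS.inl_desc _ _ _).symm hS
  rw [e, hS.inr_desc]
  exact hA

end DevissShrinkLib
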